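import Cfsg.Agent.Lib.Recog.NineV4.Model
import Mathlib.GroupTheory.NoncommCoprod
import Mathlib.GroupTheory.Sylow
import Mathlib.GroupTheory.SpecificGroups.KleinFour

/-!
A group of order 36 with self-centralizing `3^2` and quotient a Klein four-group is `S₃ × S₃`.
-/

set_option autoImplicit false
set_option linter.style.haveILetI false

namespace Cfsg.Agent.NineV4

open DihedralGroup

universe u

variable {H : Type u} [Group H]

theorem kernel_facts : ∀ w : V, w ≠ 1 → ∃ v u : V, ∃ i : Fin 3, ∃ j : Fin 2,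
    ((u * (v * w * v⁻¹ * w⁻¹) * u⁻¹) * (v * w * v⁻¹ * w⁻¹) ^ (j : ℕ)) ^ (i : ℕ) = (r 1, 1) ∨
    ((u * (v * w * v⁻¹ * w⁻¹) * u⁻¹) * (v * w * v⁻¹ * w⁻¹) ^ (j : ℕ)) ^ (i : ℕ) = (1, r 1) := by
  decide +kernel

theorem r_eq_pow : ∀ i : ZMod 3, (r i : DihedralGroup 3) = r 1 ^ i.val := by decide +kernel

/-- A homomorphism from the dihedral group of order six. -/
def dihHom (a x : H) (ha : a * a = 1) (hx : x ^ 3 = 1) (hax : a * x * a = x⁻¹) :
    DihedralGroup 3 →* H where
  toFun
    | r i => x ^ i.val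
    | sr i => a * x ^ i.val
  map_one' := by
    show x ^ (0 : ZMod 3).val = 1
    rw [ZMod.val_zero, pow_zero]
  map_mul' := by
    have hadd : ∀ i j : ZMod 3, x ^ (i + j).val = x ^ i.val * x ^ j.val := fun i j => by
      rw [← pow_add, ZMod.val_add, ← pow_eq_pow_mod _ hx]
    have hinv : ∀ i : ZMod 3, x ^ (-i).val = (x ^ i.val)⁻¹ := fun i => by
      refine eq_inv_of_mul_eq_one_left ?_
      rw [← hadd, neg_add_cancel, ZMod.val_zero, pow_zero]
    have hcomm : ∀ i : ZMod 3, x ^ i.val * a = a * x ^ (-i).val := fun i => by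
      rw [hinv, ← inv_pow, ← hax, show (a * x * a) ^ i.val = a * x ^ i.val * a by
        have : (a * x * a⁻¹) ^ i.val = a * x ^ i.val * a⁻¹ := conj_pow
        rwa [show a⁻¹ = a from inv_eq_of_mul_eq_one_right ha] at this,
        ← mul_assoc, ← mul_assoc, ha, one_mul]
    rintro (i | i) (j | j)
    · simp only [r_mul_r, hadd]
    · simp only [r_mul_sr]
      rw [← mul_assoc, hcomm, mul_assoc, ← hadd, show -i + j = j - i by ring]
    · simp only [sr_mul_r, hadd, mul_assoc]
    · simp only [sr_mul_sr]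
      rw [show a * x ^ i.val * (a * x ^ j.val) = a * (x ^ i.val * a) * x ^ j.val by group, hcomm,
        ← mul_assoc, ha, one_mul, ← hadd, show -i + j = j - i by ring]

theorem dihHom_sr (a x : H) (ha : a * a = 1) (hx : x ^ 3 = 1) (hax : a * x * a = x⁻¹) :
    dihHom a x ha hx hax (sr 0) = a ∧ dihHom a x ha hx hax (r 1) = x := by
  constructor
  · show a * x ^ (0 : ZMod 3).val = a
    rw [ZMod.val_zero, pow_zero, mul_one]
  · show x ^ (1 : ZMod 3).val = x
    rw [show (1 : ZMod 3).val = 1 from rfl, pow_one]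

/-- The identification with the model. -/
theorem exists_equiv [Finite H] (T : Subgroup H) [T.Normal] (hcard : Nat.card T = 9)
    (hcomm : ∀ x ∈ T, ∀ y ∈ T, x * y = y * x) (hexp : ∀ x ∈ T, x ^ 3 = 1)
    (hC : ∀ h : H, (∀ x ∈ T, h * x = x * h) → h ∈ T) (hK : IsKleinFour (H ⧸ T)) :
    Nonempty (H ≃* V) := by
  classical
  have hH : Nat.card H = 36 := by
    rw [Subgroup.card_eq_card_quotient_mul_card_subgroup T, hK.card_four, hcard]
  haveI : Fact (Nat.Prime 2) := ⟨Nat.prime_two⟩
  obtain ⟨S, hS⟩ := Sylow.exists_subgroup_card_pow_prime 2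
    (show 2 ^ 2 ∣ Nat.card H by rw [hH]; norm_num)
  have hST : ∀ s ∈ S, s ∈ T → s = 1 := fun s hs hsT => by
    have h1 := Subgroup.orderOf_dvd_natCard S hs
    have h2 := Subgroup.orderOf_dvd_natCard T hsT
    rw [hS] at h1
    rw [hcard] at h2
    exact orderOf_eq_one_iff.mp (Nat.eq_one_of_dvd_coprimes (by norm_num) h1 h2)
  have hsq : ∀ s ∈ S, s * s = 1 := fun s hs => by
    refine hST _ (S.mul_mem hs hs) ((QuotientGroup.eq_one_iff _).mp ?_)
    rw [QuotientGroup.mk_mul]
    exact IsKleinFour.mul_self _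
  have hscomm : ∀ a ∈ S, ∀ b ∈ S, a * b = b * a := fun a ha b hb => by
    have hi : ∀ s ∈ S, s⁻¹ = s := fun s hs => inv_eq_of_mul_eq_one_right (hsq s hs)
    rw [← hi _ (S.mul_mem ha hb), mul_inv_rev, hi a ha, hi b hb]
  have hconjT : ∀ s, ∀ x ∈ T, s * x * s⁻¹ ∈ T := fun s x hx =>
    Subgroup.Normal.conj_mem ‹_› x hx s
  have inv_of_sq : ∀ s ∈ S, s⁻¹ = s := fun s hs => inv_eq_of_mul_eq_one_right (hsq s hs)
  have notcent : ∀ s ∈ S, s ≠ 1 → ∃ x ∈ T, s * x * s ≠ x := by
    intro s hs h1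
    by_contra hc
    push Not at hc
    refine h1 (hST s hs (hC s fun x hx => ?_))
    calc s * x = s * x * s * s := by rw [mul_assoc (s * x), hsq s hs, mul_one]
      _ = x * s := by rw [hc x hx]
  -- non-inverting involutions have fixed points
  have hfix : ∀ s ∈ S, ¬ (∀ x ∈ T, s * x * s = x⁻¹) → ∃ z ∈ T, z ≠ 1 ∧ s * z * s = z := by
    intro s hs hni
    push Not at hni
    obtain ⟨x, hx, hne⟩ := hni
    have hc := hconjT s x hx
    rw [inv_of_sq s hs] at hc
    refine ⟨x * (s * x * s), T.mul_mem hx hc, fun e => hne (eq_inv_of_mul_eq_one_right e), ?_⟩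
    rw [hcomm x hx _ hc]
    calc s * (s * x * s * x) * s = s * s * x * (s * x * s) := by group
      _ = x * (s * x * s) := by rw [hsq s hs, one_mul]
      _ = s * x * s * x := hcomm x hx _ hc
  have honly : ∀ a ∈ S, ∀ b ∈ S, a ≠ b → (∀ x ∈ T, a * x * a = x⁻¹) →
      (∀ x ∈ T, b * x * b = x⁻¹) → False := by
    intro a ha b hb hab h1 h2
    refine hab ?_
    have : a * b = 1 := by
      refine hST _ (S.mul_mem ha hb) (hC _ fun x hx => ?_)
      have e : b * x * b = x⁻¹ := h2 x hx
      calc a * b * x = a * (b * x * b) * b := by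
            rw [show a * (b * x * b) * b = a * (b * x) * (b * b) by group, hsq b hb, mul_one, mul_assoc]
        _ = a * x⁻¹ * a * (a * b) := by
            rw [e, show a * x⁻¹ * a * (a * b) = a * x⁻¹ * (a * a) * b by group, hsq a ha, mul_one]
        _ = x * (a * b) := by rw [h1 _ (T.inv_mem hx), inv_inv]
    rw [eq_inv_of_mul_eq_one_left this, inv_of_sq b hb]
  obtain ⟨a, ha, b, hb, ha1, hb1, hab, hna, hnb⟩ : ∃ a ∈ S, ∃ b ∈ S, a ≠ 1 ∧ b ≠ 1 ∧ a ≠ b ∧
      ¬ (∀ x ∈ T, a * x * a = x⁻¹) ∧ ¬ (∀ x ∈ T, b * x * b = x⁻¹) := by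
    haveI : Fintype S := Fintype.ofFinite S
    have hcardS : Fintype.card S = 4 := by rw [← Nat.card_eq_fintype_card, hS]; norm_num
    obtain ⟨a, b, c, ha, hb, hc, hab, hac, hbc⟩ :
        ∃ a b c : S, a ≠ 1 ∧ b ≠ 1 ∧ c ≠ 1 ∧ a ≠ b ∧ a ≠ c ∧ b ≠ c := by
      have h3 : 2 < (Finset.univ.erase (1 : S)).card := by
        rw [Finset.card_erase_of_mem (Finset.mem_univ _), Finset.card_univ, hcardS]
        norm_num
      obtain ⟨a, ha, b, hb, c, hc, h1, h2, h3⟩ := Finset.two_lt_card.mp h3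
      exact ⟨a, b, c, Finset.ne_of_mem_erase ha, Finset.ne_of_mem_erase hb,
        Finset.ne_of_mem_erase hc, h1, h2, h3⟩
    have n : ∀ {x : S}, x ≠ 1 → (x : H) ≠ 1 := fun h e => h (Subtype.ext e)
    by_cases hia : ∀ x ∈ T, (a : H) * x * a = x⁻¹
    · exact ⟨b, b.2, c, c.2, n hb, n hc, fun e => hbc (Subtype.ext e),
        fun h => honly a a.2 b b.2 (fun e => hab (Subtype.ext e)) hia h,
        fun h => honly a a.2 c c.2 (fun e => hac (Subtype.ext e)) hia h⟩
    · by_cases hib : ∀ x ∈ T, (b : H) * x * b = x⁻¹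
      · exact ⟨a, a.2, c, c.2, n ha, n hc, fun e => hac (Subtype.ext e), hia,
          fun h => honly b b.2 c c.2 (fun e => hbc (Subtype.ext e)) hib h⟩
      · exact ⟨a, a.2, b, b.2, n ha, n hb, fun e => hab (Subtype.ext e), hia, hib⟩
  obtain ⟨y, hy, hy1, hay⟩ := hfix a ha hna
  obtain ⟨x, hx, hx1, hbx⟩ := hfix b hb hnb
  -- an element inverted by `a`
  obtain ⟨z, hz, hzne⟩ := notcent a ha ha1
  have hci := hconjT a z hz
  rw [inv_of_sq a ha] at hci
  set y' := z * (a * z * a)⁻¹ with hy'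
  have hy'T : y' ∈ T := T.mul_mem hz (T.inv_mem hci)
  have hy'1 : y' ≠ 1 := fun e => hzne (mul_inv_eq_one.mp e).symm
  have hay' : a * y' * a = y'⁻¹ := by
    have ai := inv_of_sq a ha
    rw [hy']
    calc a * (z * (a * z * a)⁻¹) * a = a * z * a⁻¹ * z⁻¹ * (a⁻¹ * a) := by group
      _ = a * z * a * z⁻¹ := by rw [ai, hsq a ha, mul_one]
      _ = _ := by group
  -- `T` is generated by the fixed and the inverted element
  have hord : ∀ {w : H}, w ∈ T → w ≠ 1 → orderOf w = 3 := fun hw h1 =>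
    haveI : Fact (Nat.Prime 3) := ⟨Nat.prime_three⟩
    orderOf_eq_prime (hexp _ hw) h1
  have hgen : ∀ w ∈ T, ∃ i j : Fin 3, w = y ^ (i : ℕ) * y' ^ (j : ℕ) := by
    let ψ : Fin 3 × Fin 3 → T := fun ij =>
      ⟨y ^ (ij.1 : ℕ) * y' ^ (ij.2 : ℕ), T.mul_mem (T.pow_mem hy _) (T.pow_mem hy'T _)⟩
    have hinj : Function.Injective ψ := by
      rintro ⟨i, j⟩ ⟨i', j'⟩ e
      have e : y ^ (i : ℕ) * y' ^ (j : ℕ) = y ^ (i' : ℕ) * y' ^ (j' : ℕ) := congrArg Subtype.val e
      have key : ∀ m n : ℕ, y ^ m * y' ^ n = 1 → y ^ m = 1 ∧ y' ^ n = 1 := by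
        intro m n h
        have h' : y ^ m * (y' ^ n)⁻¹ = 1 := by
          have := congrArg (fun t => a * t * a) h
          have ai := inv_of_sq a ha
          simp only [mul_one, hsq a ha] at this
          rw [show a * (y ^ m * y' ^ n) * a = (a * y ^ m * a⁻¹) * (a * y' ^ n * a⁻¹) by
            rw [ai]; calc a * (y ^ m * y' ^ n) * a = a * y ^ m * 1 * y' ^ n * a := by group
              _ = a * y ^ m * (a * a) * y' ^ n * a := by rw [hsq a ha]
              _ = _ := by group,
            ← conj_pow, ← conj_pow, ai, hay, hay', inv_pow] at this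
          exact this
        have e1 : y' ^ n = (y' ^ n)⁻¹ :=
          mul_left_cancel (h.trans h'.symm)
        have e2 : y' ^ n * y' ^ n = 1 := by
          conv_lhs => enter [2]; rw [e1]
          exact mul_inv_cancel _
        have e3 := hexp _ (T.pow_mem hy'T n)
        rw [pow_succ, pow_two, e2, one_mul] at e3
        exact ⟨by rwa [e3, mul_one] at h, e3⟩
      have hy3 := hexp y hy
      have hy'3 := hexp y' hy'T
      have e' : y ^ ((i : ℕ) + (3 - i')) * y' ^ ((j : ℕ) + (3 - j')) = 1 := by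
        rw [pow_add, pow_add, hcomm _ (T.pow_mem hy (i : ℕ)) _ (T.pow_mem hy (3 - i'))]
        calc y ^ (3 - (i' : ℕ)) * y ^ (i : ℕ) * (y' ^ (j : ℕ) * y' ^ (3 - (j' : ℕ)))
            = y ^ (3 - (i' : ℕ)) * (y ^ (i : ℕ) * y' ^ (j : ℕ)) * y' ^ (3 - (j' : ℕ)) := by group
          _ = y ^ (3 - (i' : ℕ)) * y ^ (i' : ℕ) * (y' ^ (j' : ℕ) * y' ^ (3 - (j' : ℕ))) := by
              rw [e]; group
          _ = 1 := by
              rw [← pow_add, ← pow_add, Nat.sub_add_cancel i'.2.le, Nat.add_sub_cancel' j'.2.le,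
                hy3, hy'3, one_mul]
      obtain ⟨k1, k2⟩ := key _ _ e'
      have d1 := orderOf_dvd_of_pow_eq_one k1
      have d2 := orderOf_dvd_of_pow_eq_one k2
      rw [hord hy hy1] at d1
      rw [hord hy'T hy'1] at d2
      have := i.2; have := i'.2; have := j.2; have := j'.2
      simp only [Prod.mk.injEq]
      constructor <;> apply Fin.ext <;> omega
    have hsurj : Function.Surjective ψ := by
      haveI : Fintype T := Fintype.ofFinite T
      exact ((Fintype.bijective_iff_injective_and_card ψ).mpr ⟨hinj, by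
        rw [← Nat.card_eq_fintype_card, ← Nat.card_eq_fintype_card, hcard, Nat.card_prod,
          Nat.card_fin]⟩).2
    intro w hw
    obtain ⟨⟨i, j⟩, e⟩ := hsurj ⟨w, hw⟩
    exact ⟨i, j, (congrArg Subtype.val e).symm⟩
  have hconjpow : ∀ (s : H) (w : H) (n : ℕ), s ∈ S → s * w ^ n * s = (s * w * s) ^ n :=
    fun s w n hs => by
      have : (s * w * s⁻¹) ^ n = s * w ^ n * s⁻¹ := conj_pow
      rw [inv_of_sq s hs] at this
      exact this.symm
  -- fixed elements of `a` are powers of `y`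
  have hfixa : ∀ w ∈ T, a * w * a = w → ∃ i : Fin 3, w = y ^ (i : ℕ) := by
    intro w hw hwa
    obtain ⟨i, j, rfl⟩ := hgen w hw
    refine ⟨i, ?_⟩
    have e : a * (y ^ (i : ℕ) * y' ^ (j : ℕ)) * a = y ^ (i : ℕ) * (y' ^ (j : ℕ))⁻¹ := by
      calc a * (y ^ (i : ℕ) * y' ^ (j : ℕ)) * a
          = a * y ^ (i : ℕ) * (a * a) * y' ^ (j : ℕ) * a := by rw [hsq a ha, mul_one]; group
        _ = (a * y ^ (i : ℕ) * a) * (a * y' ^ (j : ℕ) * a) := by group
        _ = _ := by rw [hconjpow a y _ ha, hconjpow a y' _ ha, hay, hay', inv_pow]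
    rw [hwa] at e
    have e1 : y' ^ (j : ℕ) = (y' ^ (j : ℕ))⁻¹ := mul_left_cancel e
    have e2 : y' ^ (j : ℕ) * y' ^ (j : ℕ) = 1 := by
      conv_lhs => enter [2]; rw [e1]
      exact mul_inv_cancel _
    have e3 := hexp _ (T.pow_mem hy'T (j : ℕ))
    rw [pow_succ, pow_two, e2, one_mul] at e3
    rw [e3, mul_one]
  have hcab := hscomm a ha b hb
  have hTb : ∀ w ∈ T, b * w * b ∈ T := fun w hw => by
    have := hconjT b w hw
    rwa [inv_of_sq b hb] at this
  have hswap : ∀ w : H, a * (b * w * b) * a = b * (a * w * a) * b := fun w => by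
    calc a * (b * w * b) * a = (a * b) * w * (b * a) := by group
      _ = (b * a) * w * (a * b) := by rw [hcab]
      _ = b * (a * w * a) * b := by group
  -- `b` inverts `y`
  have hbyy : b * y * b = y⁻¹ := by
    obtain ⟨i, hi⟩ := hfixa (b * y * b) (hTb y hy) (by rw [hswap, hay])
    match i with
    | 0 =>
      exfalso
      simp only [Fin.val_zero, pow_zero] at hi
      refine hy1 ?_
      calc y = b * (b * y * b) * b := by
            rw [show b * (b * y * b) * b = (b * b) * y * (b * b) by group, hsq b hb, one_mul, mul_one]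
        _ = 1 := by rw [hi, mul_one, hsq b hb]
    | 1 =>
      exfalso
      simp only [Fin.val_one, pow_one] at hi
      -- then `b` or `a * b` centralizes `T`
      obtain ⟨p, q, hpq⟩ := hgen (b * y' * b) (hTb y' hy'T)
      have hinv : a * (b * y' * b) * a = (b * y' * b)⁻¹ := by
        rw [hswap, hay']
        calc b * y'⁻¹ * b = (b⁻¹ * y' * b⁻¹)⁻¹ := by group
          _ = _ := by rw [inv_of_sq b hb]
      have hp0 : y ^ (p : ℕ) = 1 := by
        have e : a * (y ^ (p : ℕ) * y' ^ (q : ℕ)) * a = y ^ (p : ℕ) * (y' ^ (q : ℕ))⁻¹ := by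
          calc a * (y ^ (p : ℕ) * y' ^ (q : ℕ)) * a
              = a * y ^ (p : ℕ) * (a * a) * y' ^ (q : ℕ) * a := by rw [hsq a ha, mul_one]; group
            _ = (a * y ^ (p : ℕ) * a) * (a * y' ^ (q : ℕ) * a) := by group
            _ = _ := by rw [hconjpow a y _ ha, hconjpow a y' _ ha, hay, hay', inv_pow]
        rw [← hpq, hinv, hpq, mul_inv_rev,
          hcomm _ (T.inv_mem (T.pow_mem hy'T _)) _ (T.inv_mem (T.pow_mem hy _))] at e
        have e1 : (y ^ (p : ℕ))⁻¹ = y ^ (p : ℕ) := mul_right_cancel e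
        have e2 : y ^ (p : ℕ) * y ^ (p : ℕ) = 1 := by
          conv_lhs => enter [2]; rw [← e1]
          exact mul_inv_cancel _
        have e3 := hexp _ (T.pow_mem hy (p : ℕ))
        rwa [pow_succ, pow_two, e2, one_mul] at e3
      rw [hp0, one_mul] at hpq
      have hcase : ∀ s ∈ S, s * y * s = y → s * y' * s = y' → s = 1 := by
        intro s hs h1 h2
        by_contra hs1
        obtain ⟨w, hw, hwne⟩ := notcent s hs hs1
        obtain ⟨i, j, rfl⟩ := hgen w hw
        apply hwne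
        calc s * (y ^ (i : ℕ) * y' ^ (j : ℕ)) * s
            = s * y ^ (i : ℕ) * (s * s) * y' ^ (j : ℕ) * s := by rw [hsq s hs, mul_one]; group
          _ = (s * y ^ (i : ℕ) * s) * (s * y' ^ (j : ℕ) * s) := by group
          _ = _ := by rw [hconjpow s y _ hs, hconjpow s y' _ hs, h1, h2]
      match q with
      | 0 =>
        simp only [Fin.val_zero, pow_zero] at hpq
        refine hy'1 ?_
        calc y' = b * (b * y' * b) * b := by
              rw [show b * (b * y' * b) * b = (b * b) * y' * (b * b) by group, hsq b hb, one_mul,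
                mul_one]
          _ = 1 := by rw [hpq, mul_one, hsq b hb]
      | 1 => exact hb1 (hcase b hb hi (by simpa using hpq))
      | 2 =>
        have hy2 : y' ^ 2 = y'⁻¹ := eq_inv_of_mul_eq_one_left (by
          rw [← pow_succ]; exact hexp _ hy'T)
        simp only [Fin.val_two] at hpq
        rw [hy2] at hpq
        have := hcase (a * b) (S.mul_mem ha hb)
          (by
            calc a * b * y * (a * b) = a * (b * y * b) * a := by
                  rw [show a * (b * y * b) * a = a * b * y * (b * a) by group, hcab]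
              _ = y := by rw [hi, hay])
          (by
            calc a * b * y' * (a * b) = a * (b * y' * b) * a := by
                  rw [show a * (b * y' * b) * a = a * b * y' * (b * a) by group, hcab]
              _ = y' := by
                  rw [hpq, show a * y'⁻¹ * a = (a⁻¹ * y' * a⁻¹)⁻¹ by group, inv_of_sq a ha, hay',
                    inv_inv])
        exact hab ((eq_inv_of_mul_eq_one_left this).trans (inv_of_sq b hb))
    | 2 =>
      simp only [Fin.val_two] at hi
      rw [hi]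
      exact eq_inv_of_mul_eq_one_left (by rw [← pow_succ]; exact hexp _ hy)
  -- so `x` is inverted by `a`
  have hax : a * x * a = x⁻¹ := by
    obtain ⟨i, j, rfl⟩ := hgen x hx
    have e : b * y ^ (i : ℕ) * b = (y ^ (i : ℕ))⁻¹ := by
      rw [hconjpow b y _ hb, hbyy, inv_pow]
    have hi : y ^ (i : ℕ) = 1 := by
      have hbj : b * y' ^ (j : ℕ) * b = y ^ (i : ℕ) * y ^ (i : ℕ) * y' ^ (j : ℕ) := by
        have : b * y ^ (i : ℕ) * b * (b * y' ^ (j : ℕ) * b) = y ^ (i : ℕ) * y' ^ (j : ℕ) := by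
          calc b * y ^ (i : ℕ) * b * (b * y' ^ (j : ℕ) * b)
              = b * y ^ (i : ℕ) * (b * b) * y' ^ (j : ℕ) * b := by group
            _ = b * (y ^ (i : ℕ) * y' ^ (j : ℕ)) * b := by rw [hsq b hb, mul_one]; group
            _ = _ := hbx
        rw [e, inv_mul_eq_iff_eq_mul] at this
        rw [this, mul_assoc]
      have h' : a * (b * y' ^ (j : ℕ) * b) * a = (b * y' ^ (j : ℕ) * b)⁻¹ := by
        rw [hswap, hconjpow a y' _ ha, hay', inv_pow]
        calc b * (y' ^ (j : ℕ))⁻¹ * b = (b⁻¹ * y' ^ (j : ℕ) * b⁻¹)⁻¹ := by group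
          _ = _ := by rw [inv_of_sq b hb]
      rw [hbj] at h'
      have e4 : a * (y ^ (i : ℕ) * y ^ (i : ℕ) * y' ^ (j : ℕ)) * a =
          y ^ (i : ℕ) * y ^ (i : ℕ) * (y' ^ (j : ℕ))⁻¹ := by
        calc a * (y ^ (i : ℕ) * y ^ (i : ℕ) * y' ^ (j : ℕ)) * a
            = a * (y ^ (i : ℕ) * y ^ (i : ℕ)) * (a * a) * y' ^ (j : ℕ) * a := by
              rw [hsq a ha, mul_one]; group
          _ = (a * (y ^ (i : ℕ) * y ^ (i : ℕ)) * a) * (a * y' ^ (j : ℕ) * a) := by group
          _ = _ := by rw [← pow_add, hconjpow a y _ ha, hconjpow a y' _ ha, hay, hay', inv_pow]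
      rw [h', mul_inv_rev, hcomm _ (T.inv_mem (T.pow_mem hy'T _)) _
        (T.inv_mem (T.mul_mem (T.pow_mem hy _) (T.pow_mem hy _)))] at e4
      have e5 := mul_right_cancel e4
      have e7 : (y ^ (i : ℕ) * y ^ (i : ℕ)) * (y ^ (i : ℕ) * y ^ (i : ℕ)) = 1 := by
        conv_lhs => enter [1]; rw [← e5]
        exact inv_mul_cancel _
      have e8 := hexp _ (T.pow_mem hy (i : ℕ))
      rw [pow_succ, pow_two] at e8
      rwa [← mul_assoc, e8, one_mul] at e7
    rw [hi, one_mul, hconjpow a y' _ ha, hay', inv_pow]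
  let ψa := dihHom a x (hsq a ha) (hexp x hx) hax
  let ψb := dihHom b y (hsq b hb) (hexp y hy) hbyy
  have hcommab : ∀ m n, Commute (ψa m) (ψb n) := by
    have c1 : Commute a b := hcab
    have c2 : Commute a y := by
      show a * y = y * a
      calc a * y = a * y * a * a := by rw [mul_assoc (a * y), hsq a ha, mul_one]
        _ = y * a := by rw [hay]
    have c3 : Commute x b := by
      show x * b = b * x
      calc x * b = b * x * b * b := by rw [hbx]
        _ = b * x := by rw [mul_assoc (b * x), hsq b hb, mul_one]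
    have c4 : Commute x y := hcomm x hx y hy
    rintro (i | i) (j | j)
    · exact c4.pow_pow _ _
    · exact (c3.mul_right (c4.pow_right _)).pow_left _
    · exact (c2.pow_right _).mul_left (c4.pow_pow _ _)
    · exact (c1.mul_right (c2.pow_right _)).mul_left ((c3.mul_right (c4.pow_right _)).pow_left _)
  let φ : V →* H := MonoidHom.noncommCoprod ψa ψb hcommab
  have hφx : φ (r 1, 1) = x := by simp [φ, ψa, (dihHom_sr _ _ _ _ _).2]
  have hφy : φ (1, r 1) = y := by simp [φ, ψb, (dihHom_sr _ _ _ _ _).2]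
  have hinj : Function.Injective φ := by
    rw [injective_iff_map_eq_one]
    intro w hw
    by_contra h1
    obtain ⟨v, u, i, j, e | e⟩ := kernel_facts w h1
    · have := congrArg φ e
      simp [hw, hφx] at this
      exact hx1 this.symm
    · have := congrArg φ e
      simp [hw, hφy] at this
      exact hy1 this.symm
  haveI : Fintype H := Fintype.ofFinite H
  exact ⟨(MulEquiv.ofBijective φ ((Fintype.bijective_iff_injective_and_card φ).mpr ⟨hinj, by
    rw [card_V, ← Nat.card_eq_fintype_card, hH]⟩)).symm⟩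

end Cfsg.Agent.NineV4
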