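import Cfsg.Agent.Lib.Recog.ThreeCubed.ArithCases

/-!
The vectors for a subgroup `3^2 : 2^2`.
-/

set_option autoImplicit false
set_option linter.unusedSectionVars false

namespace Cfsg.Agent.NineV4.Arith

open ThreeCubed.Arith

universe u

variable {I : Type u} [Fintype I] [DecidableEq I] {t : I} {d v v' : I → ℤ}

/-- Three constituents of a vector with `m t = 0` from two known ones. -/
theorem exists_third {g : I → ℤ} (hn : ∑ k, g k * g k = 3) {p q : I} (hpq : p ≠ q)
    (hp : g p ≠ 0) (hq : g q ≠ 0) :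
    ∃ w, p ≠ w ∧ q ≠ w ∧ (g w = 1 ∨ g w = -1) ∧ ∀ k, k ≠ p → k ≠ q → k ≠ w → g k = 0 := by
  obtain ⟨w, hw, h1, hz⟩ := rest_one (m := g) (T := {p, q}) (c := 2) (by
    rw [Finset.sum_pair hpq]
    rcases (entries_small hn p).resolve_left hp with a | a <;>
      rcases (entries_small hn q).resolve_left hq with b | b <;> rw [a, b] <;> norm_num)
    (by rw [hn]; norm_num)
  simp only [Finset.mem_insert, Finset.mem_singleton, not_or] at hw hz
  exact ⟨w, Ne.symm hw.1, Ne.symm hw.2, h1, fun k a b c => hz k ⟨a, b⟩ c⟩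

/-- Values proportional to degrees on the support of a vector with vanishing sum of squares. -/
theorem ratio_of_Lsum_zero (hd : ∀ k, 0 < d k) {g : I → ℤ} (hg : IsG t d v g)
    (hL : Lsum d v g = 0) {i j : I} (hi : g i ≠ 0) (hj : g j ≠ 0) : v i * d j = v j * d i := by
  rcases eq_or_ne i j with rfl | hij
  · rfl
  obtain ⟨w, hiw, hjw, hw, hz⟩ := exists_third hg.norm hij hi hj
  have hi1 := (entries_small hg.norm i).resolve_left hi
  have hj1 := (entries_small hg.norm j).resolve_left hj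
  have e1 := sum_three hij hiw hjw hz (fun k => g k * d k) fun k hk => by rw [hk, zero_mul]
  have e2 := sum_three hij hiw hjw hz (fun k => g k * v k) fun k hk => by rw [hk, zero_mul]
  rw [hg.deg] at e1
  rw [hg.val] at e2
  rw [Lsum, sum_three hij hiw hjw hz (fun k => (g k : ℚ) * (v k : ℚ) ^ 2 / (d k : ℚ))
    (fun k hk => by simp [hk]), term_eq hd hi1, term_eq hd hj1, term_eq hd hw] at hL
  have hW : g w * d w = -(g i * d i) - g j * d j := by linarith
  have hw' : g w * v w = -(g i * v i) - g j * v j := by linarith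
  have hW0 := deg_ne hd hw (k := w)
  rw [hW] at hW0
  rw [hW, hw'] at hL
  have a1 : ((g i * d i : ℤ) : ℚ) ≠ 0 := by exact_mod_cast deg_ne hd hi1
  have a2 : ((g j * d j : ℤ) : ℚ) ≠ 0 := by exact_mod_cast deg_ne hd hj1
  have a3 : ((-(g i * d i) - g j * d j : ℤ) : ℚ) ≠ 0 := by exact_mod_cast hW0
  have hkey : (((g i * v i : ℤ) : ℚ) * (g j * d j : ℤ) - (g j * v j : ℤ) * (g i * d i : ℤ)) ^ 2 = 0 := by
    generalize g i * d i = P at a1 a3 hL ⊢
    generalize g j * d j = Q at a2 a3 hL ⊢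
    generalize g i * v i = x at hL ⊢
    generalize g j * v j = y at hL ⊢
    push_cast at a3 hL
    field_simp at hL
    linear_combination -hL
  rw [pow_eq_zero_iff two_ne_zero] at hkey
  have h3 : g i * g j * (v i * d j - v j * d i) = 0 := by
    have : g i * v i * (g j * d j) - g j * v j * (g i * d i) = 0 := by exact_mod_cast hkey
    linarith
  have := (mul_eq_zero.mp h3).resolve_left (mul_ne_zero hi hj)
  linarith

/-- All constituents of `1 + X + Y` have value equal to degree. -/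
theorem Split.eq_deg (hd : ∀ k, 0 < d k) (hdt : d t = 1) (hvt : v t = 1) {f : I → ℤ} {i j : I}
    (h : Split t f i j) (hf : IsF t d v f) (hL : Lsum d v f = 0) : v i = d i := by
  obtain ⟨-, -, -, -, e⟩ := h.data hd hdt hvt hf.deg hf.val
  rw [hL, zero_mul, eq_comm, pow_eq_zero_iff two_ne_zero, sub_eq_zero] at e
  have e' : f i * d i = f i * v i := by exact_mod_cast e
  exact (mul_left_cancel₀ h.mne e').symm

/-- The arrangement of the constituents. -/
structure Shape (t : I) (e0 f0 e1 f1 : I → ℤ) (d : I → ℤ) (p p' q q' w w' z : I) : Prop where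
  he0 : Split t e0 p p'
  hf0 : Split t f0 q q'
  f1p : f1 p = e0 p
  e1q : e1 q = f0 q
  ew : e1 w = f1 w
  w1 : f1 w = 1 ∨ f1 w = -1
  w1' : f1 w' = 1 ∨ f1 w' = -1
  z1 : e1 z = 1 ∨ e1 z = -1
  npw : p ≠ w
  npw' : p ≠ w'
  nww' : w ≠ w'
  nqw : q ≠ w
  nqz : q ≠ z
  nwz : w ≠ z
  zf : ∀ k, k ≠ p → k ≠ w → k ≠ w' → f1 k = 0
  ze : ∀ k, k ≠ q → k ≠ w → k ≠ z → e1 k = 0
  degp : d p = 1
  f0p : f0 p = 0
  e0p : e0 p = 1
  degw : f1 w * d w = f0 q * d q

theorem exists_shape (hd : ∀ k, 0 < d k) (hdt : d t = 1) (hvt : v t = 1) {e0 f0 e1 f1 r : I → ℤ}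
    (he : IsF t d v e0) (hf : IsF t d v f0) (he1 : IsG t d v e1) (hf1 : IsG t d v f1)
    (hr : IsG t d v r)
    (ef : ∑ k, e0 k * f0 k = 1) (fe0 : ∑ k, f1 k * e0 k = 1) (ff : ∑ k, f1 k * f0 k = 0)
    (ee : ∑ k, e1 k * e0 k = 0) (ef0 : ∑ k, e1 k * f0 k = 1) (ef1 : ∑ k, e1 k * f1 k = 1)
    (rf0 : ∑ k, r k * f0 k = -1) (rf1 : ∑ k, r k * f1 k = -1) (re1 : ∑ k, r k * e1 k = 0)
    (Le : Lsum d v e0 = 0) (Le1 : Lsum d v e1 = 0) (Lr : Lsum d v r = 0)
    (Lff : Lsum d v f0 = Lsum d v f1) (Lne : Lsum d v f0 ≠ 0) :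
    ∃ p p' q q' w w' z, Shape t e0 f0 e1 f1 d p p' q q' w w' z ∧ v p = d p := by
  have dd := disjoint_of_dot hd he.ht hf.ht he.norm hf.norm he.deg hf.deg ef
  obtain ⟨p, p', hp, hfp, hfp'⟩ := pick he.ht he.norm hf1.ht hf1.norm fe0
  obtain ⟨q, q', hq, heq, heq'⟩ := pick hf.ht hf.norm he1.ht he1.norm ef0
  have hvp := Split.eq_deg hd hdt hvt hp he Le
  have hvp' := Split.eq_deg hd hdt hvt hp.symm he Le
  obtain ⟨hQ', hq'v, hQ0, hQ1, hLf⟩ := hq.data hd hdt hvt hf.deg hf.val
  have hk : v q ≠ d q := by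
    intro e
    rw [e, sub_self, zero_pow two_ne_zero] at hLf
    rcases mul_eq_zero.mp hLf with a | a
    · exact Lne a
    · rcases mul_eq_zero.mp a with b | b
      · exact hQ0 (by exact_mod_cast b)
      · exact hQ1 (by exact_mod_cast b)
  have hk' : v q' ≠ d q' := by
    intro e
    rw [e] at hq'v
    exact hk (mul_left_cancel₀ hq.mne (by linarith))
  have hpf : f0 p = 0 := (dd p hp.hit).resolve_left hp.mne
  have hpf' : f0 p' = 0 := (dd p' hp.hjt).resolve_left hp.symm.mne
  have hqe : e0 q = 0 := (dd q hq.hit).resolve_right hq.mne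
  have hqe' : e0 q' = 0 := (dd q' hq.hjt).resolve_right hq.symm.mne
  have hpq : p ≠ q := fun e => hq.mne (e ▸ hpf)
  have hpq' : p ≠ q' := fun e => hq.symm.mne (e ▸ hpf)
  have hfp0 : f1 p ≠ 0 := by rw [hfp]; exact hp.mne
  have heq0 : e1 q ≠ 0 := by rw [heq]; exact hq.mne
  -- the two new vectors avoid the other pair
  have hq1 : f1 q = 0 ∧ f1 q' = 0 := by
    have e := hq.dot f1
    rw [ff, hf1.ht] at e
    by_contra hc
    have h2 : f1 q ≠ 0 ∧ f1 q' ≠ 0 := by
      rcases hq.hi with a | a <;> rcases hq.hj with b | b <;> rw [a, b] at e <;> omega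
    have hz : ∀ k, k ≠ p → k ≠ q → k ≠ q' → f1 k = 0 := by
      obtain ⟨x, hx1, hx2, -, hz⟩ := exists_third hf1.norm hpq hfp0 h2.1
      have : q' = x := by
        by_contra hne
        exact h2.2 (hz q' (Ne.symm hpq') hq.hij.symm hne)
      subst this
      exact hz
    have a1 := sum_three hpq hpq' hq.hij hz (fun k => f1 k * d k) fun k hk => by rw [hk, zero_mul]
    have a2 := sum_three hpq hpq' hq.hij hz (fun k => f1 k * v k) fun k hk => by rw [hk, zero_mul]
    rw [hf1.deg] at a1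
    rw [hf1.val, hvp] at a2
    apply hk
    rcases hq.hi with a | a <;> rcases hq.hj with b | b <;>
      rcases (entries_small hf1.norm q).resolve_left h2.1 with c | c <;>
      rcases (entries_small hf1.norm q').resolve_left h2.2 with c' | c' <;>
      simp only [a, b, c, c'] at e a1 a2 hQ' hq'v <;> omega
  have hp1 : e1 p = 0 ∧ e1 p' = 0 := by
    have e := hp.dot e1
    rw [ee, he1.ht] at e
    by_contra hc
    have h2 : e1 p ≠ 0 ∧ e1 p' ≠ 0 := by
      rcases hp.hi with a | a <;> rcases hp.hj with b | b <;> rw [a, b] at e <;> omega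
    have := ratio_of_Lsum_zero hd he1 Le1 h2.1 heq0
    rw [hvp, mul_comm (v q)] at this
    exact hk (mul_left_cancel₀ (hd p).ne' this).symm
  obtain ⟨w, hw1, hw2⟩ : ∃ w, f1 w * e1 w ≠ 0 ∧ (w ≠ p ∧ w ≠ q) := by
    obtain ⟨w, -, hw⟩ := Finset.exists_ne_zero_of_sum_ne_zero
      (s := (Finset.univ : Finset I)) (f := fun k => e1 k * f1 k) (by rw [ef1]; norm_num)
    refine ⟨w, by rwa [mul_comm], fun e => hw ?_, fun e => hw ?_⟩
    · rw [e, hp1.1, zero_mul]
    · rw [e, hq1.1, mul_zero]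
  have hfw : f1 w ≠ 0 := left_ne_zero_of_mul hw1
  have hew : e1 w ≠ 0 := right_ne_zero_of_mul hw1
  obtain ⟨w', hpw', hww', hw'1, hzf⟩ := exists_third hf1.norm hw2.1.symm hfp0 hfw
  obtain ⟨z, hqz, hwz, hz1, hze⟩ := exists_third he1.norm hw2.2.symm heq0 hew
  have hpe : ∀ k, k ≠ p → k ≠ w → k ≠ w' → f1 k = 0 := hzf
  have hw'z : e1 w' = 0 := by
    by_contra hne
    have hz' : w' = z := by
      by_contra h
      exact hne (hze w' (fun e => by rw [e, hq1.1] at hw'1; omega) hww'.symm h)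
    subst hz'
    rw [sum_three hw2.1.symm hpw' hww' hzf (fun k => e1 k * f1 k)
      (fun k hk => by rw [hk, mul_zero]), hp1.1] at ef1
    rcases (entries_small he1.norm w).resolve_left hew with a | a <;>
      rcases (entries_small hf1.norm w).resolve_left hfw with b | b <;>
      rcases hz1 with c | c <;> rcases hw'1 with c' | c' <;> rw [a, b, c, c'] at ef1 <;> omega
  have hsame : e1 w = f1 w := by
    rw [sum_three hw2.1.symm hpw' hww' hzf (fun k => e1 k * f1 k)
      (fun k hk => by rw [hk, mul_zero]), hp1.1, hw'z] at ef1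
    rcases (entries_small he1.norm w).resolve_left hew with a | a <;>
      rcases (entries_small hf1.norm w).resolve_left hfw with b | b <;>
      rw [a, b] at ef1 ⊢ <;> omega
  have hw1' : f1 w = 1 ∨ f1 w = -1 := (entries_small hf1.norm w).resolve_left hfw
  have rw' := ratio_of_Lsum_zero hd he1 Le1 hew heq0
  -- the third vector with vanishing sum of squares
  have hrq : r q = 0 := by
    by_contra hne
    have e := hq.dot r
    rw [rf0, hr.ht] at e
    have hq'0 : r q' = 0 := by
      by_contra hne'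
      rcases hq.hi with a | a <;> rcases hq.hj with b | b <;>
        rcases (entries_small hr.norm q).resolve_left hne with c | c <;>
        rcases (entries_small hr.norm q').resolve_left hne' with c' | c' <;>
        rw [a, b, c, c'] at e <;> omega
    obtain ⟨x, -, hx⟩ := Finset.exists_ne_zero_of_sum_ne_zero
      (s := (Finset.univ : Finset I)) (f := fun k => r k * f1 k) (by rw [rf1]; norm_num)
    have hrp : r p = 0 := by
      by_contra h
      have := ratio_of_Lsum_zero hd hr Lr h hne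
      rw [hvp, mul_comm (v q)] at this
      exact hk (mul_left_cancel₀ (hd p).ne' this).symm
    have hrw' : r w' = 0 := by
      by_contra h
      have e1 := ratio_of_Lsum_zero hd hr Lr h hne
      have a1 := sum_three hw2.1.symm hpw' hww' hzf (fun k => f1 k * d k)
        fun k hk => by rw [hk, zero_mul]
      have a2 := sum_three hw2.1.symm hpw' hww' hzf (fun k => f1 k * v k)
        fun k hk => by rw [hk, zero_mul]
      rw [hf1.deg] at a1
      rw [hf1.val, hvp] at a2
      have : f1 p * d p * (d q - v q) = 0 := by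
        linear_combination v q * a1 - d q * a2 - f1 w' * e1 - f1 w * rw'
      rcases mul_eq_zero.mp this with a | a
      · exact deg_ne hd ((entries_small hf1.norm p).resolve_left hfp0) a
      · exact hk (by linarith)
    have hxw : x = w := by
      by_contra h
      have hx1 : x ≠ p := fun e => hx (by rw [e, hrp, zero_mul])
      have hx2 : x ≠ w' := fun e => hx (by rw [e, hrw', zero_mul])
      exact hx (by rw [hzf x hx1 h hx2, mul_zero])
    subst hxw
    rw [sum_three hw2.1.symm hpw' hww' hzf (fun k => r k * f1 k)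
      (fun k hk => by rw [hk, mul_zero]), hrp, hrw'] at rf1
    have hrw : r x ≠ 0 := left_ne_zero_of_mul hx
    obtain ⟨y, hqy, hxy, hy1, hzr⟩ := exists_third hr.norm hw2.2.symm hne hrw
    have a1 := sum_three hw2.2.symm hqy hxy hzr (fun k => r k * d k)
      fun k hk => by rw [hk, zero_mul]
    have a2 := sum_three hw2.2.symm hqz hwz hze (fun k => e1 k * d k)
      fun k hk => by rw [hk, zero_mul]
    rw [hr.deg] at a1
    rw [he1.deg] at a2
    have e' : r q = -f0 q := by
      rcases hq.hi with a | a <;>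
        rcases (entries_small hr.norm q).resolve_left hne with c | c <;>
        rw [hq'0] at e <;> rw [a, c] at e ⊢ <;> omega
    have ex : r x = -f1 x := by
      rcases hw1' with a | a <;>
        rcases (entries_small hr.norm x).resolve_left hrw with c | c <;>
        rw [a, c] at rf1 ⊢ <;> omega
    rw [e', ex] at a1
    rw [heq, hsame] at a2
    rw [sum_three hw2.2.symm hqz hwz hze (fun k => r k * e1 k)
      (fun k hk => by rw [hk, mul_zero]), heq, hsame, e', ex] at re1
    rcases hq.hi with a | a <;> rcases hw1' with b | b <;> rcases hz1 with c | c <;>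
      rcases entries_small hr.norm z with c' | c' | c' <;> rw [a, b, c, c'] at re1 <;> omega
  have hrq' : r q' ≠ 0 := fun h => by
    have e := hq.dot r
    rw [rf0, hr.ht, hrq, h] at e
    omega
  have hrw' : r w' ≠ 0 := by
    intro h
    obtain ⟨x, -, hx⟩ := Finset.exists_ne_zero_of_sum_ne_zero
      (s := (Finset.univ : Finset I)) (f := fun k => r k * f1 k) (by rw [rf1]; norm_num)
    have hxp : x ≠ p := by
      intro e
      have := ratio_of_Lsum_zero hd hr Lr (left_ne_zero_of_mul (e ▸ hx)) hrq'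
      rw [hvp, mul_comm (v q')] at this
      exact hk' (mul_left_cancel₀ (hd p).ne' this).symm
    have hxw : x = w := by
      by_contra h'
      exact hx (by rw [hzf x hxp h' (fun e => left_ne_zero_of_mul (e ▸ hx) h), mul_zero])
    subst hxw
    have e := ratio_of_Lsum_zero hd hr Lr (left_ne_zero_of_mul hx) hrq'
    -- ratio of `q'` equals that of `q`
    have h1 : d x * (v q' * d q - v q * d q') = 0 := by
      linear_combination d q' * rw' - d q * e
    have h2 : v q' * d q - v q * d q' = 0 := (mul_eq_zero.mp h1).resolve_left (hd x).ne'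
    apply hk
    have : d q = v q := by linear_combination -(f0 q' * h2) + d q * hq'v - v q * hQ'
    exact this.symm
  have rr := ratio_of_Lsum_zero hd hr Lr hrq' hrw'
  have a1 := sum_three hw2.1.symm hpw' hww' hzf (fun k => f1 k * d k)
    fun k hk => by rw [hk, zero_mul]
  have a2 := sum_three hw2.1.symm hpw' hww' hzf (fun k => f1 k * v k)
    fun k hk => by rw [hk, zero_mul]
  rw [hf1.deg] at a1
  rw [hf1.val, hvp] at a2
  -- in signed degrees the arrangement is a product
  set B := f1 p * d p with hB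
  set C := f1 w * d w with hC
  set Q := f0 q * d q with hQ
  set x := f0 q * v q with hx
  set y := f1 w * v w with hy
  have hyx : y * Q = x * C := by
    simp only [hy, hQ, hx, hC]
    linear_combination f1 w * f0 q * rw'
  have hW : f1 w' * d w' = -B - C := by linarith
  have hWv : f1 w' * v w' = -B - y := by
    have : f1 p * d p = B := rfl
    linarith
  have hcr : (-1 - x) * (-B - C) = (-B - y) * (-1 - Q) := by
    rw [← hQ', ← hq'v, ← hW, ← hWv]
    linear_combination f0 q' * f1 w' * rr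
  have hxQ : x ≠ Q := fun e => hk (mul_left_cancel₀ hq.mne e)
  have hCBQ : C = B * Q := by
    have : (Q - x) * (C - B * Q) = 0 := by linear_combination Q * hcr + (1 + Q) * hyx
    have := (mul_eq_zero.mp this).resolve_left (sub_ne_zero.mpr hxQ.symm)
    linarith
  have hyB : y = B * x := by
    have h : Q * (y - B * x) = 0 := by
      rw [hCBQ] at hyx
      linear_combination hyx
    have := (mul_eq_zero.mp h).resolve_left hQ0
    linarith
  have hB0 : B ≠ 0 := deg_ne hd ((entries_small hf1.norm p).resolve_left hfp0)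
  have hLf1 : Lsum d v f1 = (B : ℚ) ^ 2 / B + (y : ℚ) ^ 2 / C +
      ((-B - y : ℤ) : ℚ) ^ 2 / ((-B - C : ℤ) : ℚ) := by
    rw [Lsum, sum_three hw2.1.symm hpw' hww' hzf (fun k => (f1 k : ℚ) * (v k : ℚ) ^ 2 / (d k : ℚ))
      (fun k hk => by simp [hk]), term_eq hd ((entries_small hf1.norm p).resolve_left hfp0),
      term_eq hd hw1', term_eq hd hw'1, hW, hWv, hvp]
  have hB1 : B = 1 := by
    have lf' := hLf
    have a0 : (Q : ℚ) ≠ 0 := by exact_mod_cast hQ0
    have a1' : (1 + (Q : ℚ)) ≠ 0 := by exact_mod_cast hQ1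
    have aB : (B : ℚ) ≠ 0 := by exact_mod_cast hB0
    have a2' : (-(B : ℚ) - B * Q) ≠ 0 := by
      rw [show -(B : ℚ) - B * Q = -((B : ℚ) * (1 + Q)) by ring]
      exact neg_ne_zero.mpr (mul_ne_zero aB a1')
    rw [← Lff, hCBQ, hyB] at hLf1
    have hform : Lsum d v f0 = (B : ℚ) * (((Q : ℚ) - x) ^ 2 / (Q * (1 + Q))) := by
      rw [hLf1, show ((-B - B * x : ℤ) : ℚ) = -((B : ℚ) * (1 + x)) by push_cast; ring,
        show ((-B - B * Q : ℤ) : ℚ) = -((B : ℚ) * (1 + Q)) by push_cast; ring]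
      push_cast
      field_simp
      ring
    have h : ((Q : ℚ) - x) ^ 2 * ((B : ℚ) - 1) = 0 := by
      rw [hform] at lf'
      field_simp at lf'
      linear_combination lf'
    have hsq : ((Q : ℚ) - x) ^ 2 ≠ 0 := pow_ne_zero 2 (sub_ne_zero.mpr (by exact_mod_cast hxQ.symm))
    exact_mod_cast sub_eq_zero.mp ((mul_eq_zero.mp h).resolve_left hsq)
  have hpd : d p = 1 ∧ e0 p = 1 := by
    have := hd p
    rw [hB, hfp] at hB1
    rcases hp.hi with a | a <;> rw [a] at hB1 ⊢ <;> constructor <;> omega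
  exact ⟨p, p', q, q', w, w', z,
    ⟨hp, hq, hfp, heq, hsame, hw1', hw'1, hz1, hw2.1.symm, hpw', hww', hw2.2.symm, hqz, hwz,
      hzf, hze, hpd.1, hpf, hpd.2, by rw [hB1, one_mul] at hCBQ; exact hCBQ⟩, hvp⟩

/-- The first and second type fused is impossible. -/
theorem no_pair (hd : ∀ k, 0 < d k) (hdt : d t = 1) (hvt : v t = 1) {e0 f0 e1 f1 : I → ℤ}
    {p p' q q' w w' z : I} (h : Shape t e0 f0 e1 f1 d p p' q q' w w' z)
    (he : IsF t d v e0) (hf : IsF t d v f0) (he1 : IsG t d v e1) (hf1 : IsG t d v f1)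
    (hvp : v p = -1) (Lef : 9 * Lsum d v e0 = 16 * Lsum d v f0)
    (Lff : Lsum d v f1 = Lsum d v f0) (Lee : Lsum d v e0 = 4 * Lsum d v e1) : False := by
  obtain ⟨-, -, -, -, le⟩ := h.he0.data hd hdt hvt he.deg he.val
  rw [h.e0p, h.degp, hvp] at le
  norm_num at le
  have hLe : Lsum d v e0 = 2 := by linarith
  obtain ⟨hY, -, hQ0, hQ1, lf⟩ := h.hf0.data hd hdt hvt hf.deg hf.val
  have hfp : f1 p = 1 := h.f1p.trans h.e0p
  have a1 := sum_three h.npw h.npw' h.nww' h.zf (fun k => f1 k * d k)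
    fun k hk => by rw [hk, zero_mul]
  have a2 := sum_three h.npw h.npw' h.nww' h.zf (fun k => f1 k * v k)
    fun k hk => by rw [hk, zero_mul]
  rw [hf1.deg, hfp, h.degp, h.degw] at a1
  rw [hf1.val, hfp, hvp] at a2
  have b1 := sum_three h.nqw h.nqz h.nwz h.ze (fun k => e1 k * d k)
    fun k hk => by rw [hk, zero_mul]
  have b2 := sum_three h.nqw h.nqz h.nwz h.ze (fun k => e1 k * v k)
    fun k hk => by rw [hk, zero_mul]
  rw [he1.deg, h.e1q, h.ew, h.degw] at b1
  rw [he1.val, h.e1q, h.ew] at b2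
  have hW : f1 w' * d w' = -1 - f0 q * d q := by linarith
  have hWv : f1 w' * v w' = 1 - f1 w * v w := by linarith
  have hZ : e1 z * d z = -2 * (f0 q * d q) := by linarith
  have hZv : e1 z * v z = -(f0 q * v q) - f1 w * v w := by linarith
  have hLf1 : Lsum d v f1 = 1 + ((f1 w * v w : ℤ) : ℚ) ^ 2 / ((f0 q * d q : ℤ) : ℚ) +
      ((1 - f1 w * v w : ℤ) : ℚ) ^ 2 / ((-1 - f0 q * d q : ℤ) : ℚ) := by
    rw [Lsum, sum_three h.npw h.npw' h.nww' h.zf (fun k => (f1 k : ℚ) * (v k : ℚ) ^ 2 / (d k : ℚ))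
      (fun k hk => by simp [hk]), term_eq hd h.w1, term_eq hd h.w1', h.degw, hW, hWv, hfp,
      h.degp, hvp]
    norm_num
  have hLe1 : Lsum d v e1 = ((f0 q * v q : ℤ) : ℚ) ^ 2 / ((f0 q * d q : ℤ) : ℚ) +
      ((f1 w * v w : ℤ) : ℚ) ^ 2 / ((f0 q * d q : ℤ) : ℚ) +
      ((-(f0 q * v q) - f1 w * v w : ℤ) : ℚ) ^ 2 / ((-2 * (f0 q * d q) : ℤ) : ℚ) := by
    rw [Lsum, sum_three h.nqw h.nqz h.nwz h.ze (fun k => (e1 k : ℚ) * (v k : ℚ) ^ 2 / (d k : ℚ))
      (fun k hk => by simp [hk]), term_eq hd (h.e1q ▸ h.hf0.hi), term_eq hd (h.ew ▸ h.w1),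
      term_eq hd h.z1, h.e1q, h.ew, h.degw, hZ, hZv]
  rw [hLe] at Lef Lee
  generalize f0 q * d q = Q at hLf1 hLe1 lf hQ0 hQ1
  generalize f0 q * v q = x at hLe1 lf
  generalize f1 w * v w = y at hLf1 hLe1
  have c1 : (Q : ℚ) ≠ 0 := by exact_mod_cast hQ0
  have c2 : (1 + (Q : ℚ)) ≠ 0 := by exact_mod_cast hQ1
  have c3 : (-1 - (Q : ℚ)) ≠ 0 := fun e => c2 (by linarith)
  rw [show Lsum d v f0 = 9 / 8 by linarith] at lf Lff
  rw [Lff] at hLf1
  rw [show Lsum d v e1 = 1 / 2 by linarith] at hLe1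
  push_cast at hLf1 hLe1 lf
  field_simp at hLf1 hLe1 lf
  have k2 : ((x : ℚ) - y) ^ 2 = Q := by
    first
      | linear_combination hLe1
      | linear_combination -hLe1
      | linear_combination (1 / 2 : ℚ) * hLe1
      | linear_combination (-1 / 2 : ℚ) * hLe1
  have k1 : 8 * ((Q : ℚ) - x) ^ 2 = 9 * Q * (1 + Q) := by linear_combination -lf
  have k3 : 8 * ((Q : ℚ) + y) ^ 2 = 9 * Q * (1 + Q) := by
    first
      | linear_combination hLf1
      | linear_combination -hLf1
  have k4 : (2 * (Q : ℚ) - (x - y)) * (x + y) = 0 := by linear_combination (-1 / 8 : ℚ) * (k1 - k3)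
  rcases mul_eq_zero.mp k4 with e | e
  · have : (Q : ℚ) * (4 * Q - 1) = 0 := by linear_combination k2 + (2 * (Q : ℚ) + (x - y)) * e
    have h' : 4 * (Q : ℚ) - 1 = 0 := (mul_eq_zero.mp this).resolve_left c1
    have : 4 * Q - 1 = 0 := by exact_mod_cast h'
    omega
  · have hQx : (Q : ℚ) = 4 * x ^ 2 := by linear_combination -k2 - (3 * (x : ℚ) - y) * e
    rw [hQx] at k1
    have hx0 : (x : ℚ) ≠ 0 := fun a => c1 (by rw [hQx, a]; ring)
    have k5 : (x : ℚ) ^ 2 * (4 * x ^ 2 + 16 * x + 7) = 0 := by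
      linear_combination (-1 / 4 : ℚ) * k1
    have k6 := (mul_eq_zero.mp k5).resolve_left (pow_ne_zero 2 hx0)
    have k7 : 4 * (x * x) + 16 * x + 7 = 0 := by
      rw [pow_two] at k6
      exact_mod_cast k6
    omega

end Cfsg.Agent.NineV4.Arith
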