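import Cfsg.Agent.Lib.Recog.ThreeCubed.Generalized

/-!
The model `S₃ × S₃` of a group `3^2 : 2^2`.
-/

set_option autoImplicit false

namespace Cfsg.Agent.NineV4

open DihedralGroup ThreeCubed

/-- The model. -/
abbrev V := DihedralGroup 3 × DihedralGroup 3

/-- Both coordinates are rotations. -/
def rotV (w : V) : Bool := decide (cl w.1 ≠ 2) && decide (cl w.2 ≠ 2)
/-- First involution type. -/
def tA (w : V) : Bool := decide (cl w.1 = 2) && decide (cl w.2 = 0)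
/-- Second involution type. -/
def tB (w : V) : Bool := decide (cl w.1 = 0) && decide (cl w.2 = 2)
/-- Third involution type. -/
def tC (w : V) : Bool := decide (cl w.1 = 2) && decide (cl w.2 = 2)

/-- Table. -/
def vE0 (w : V) : ℤ := u3 w.2
/-- Table. -/
def vF0 (w : V) : ℤ := u3 w.1
/-- Table. -/
def vE1 (w : V) : ℤ := eps w.1 * u3 w.2
/-- Table. -/
def vF1 (w : V) : ℤ := u3 w.1 * eps w.2
/-- Table. -/
def vR (w : V) : ℤ := (1 + eps w.1 - u3 w.1) * u3 w.2

/-- A candidate linear character. -/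
def lin (σ τ : ℤ) (w : V) : ℤ :=
  (if cl w.1 = 2 then σ else 1) * (if cl w.2 = 2 then τ else 1)

/-- Dot product. -/
def dotV (F F' : V → ℤ) : ℤ := ∑ w : V, F w * F' w

/-- Pair sum. -/
def pairV (P : V → Bool) (F : V → ℤ) : ℤ :=
  ∑ y ∈ Finset.univ.filter (fun w : V => P w = true),
    ∑ z ∈ Finset.univ.filter (fun w : V => P w = true), F (y * z)

/-- The five tables. -/
def vTables : List (V → ℤ) := [vE0, vF0, vE1, vF1, vR]

theorem vTables_class : ∀ F ∈ vTables, ∀ v w : V, F (v * w * v⁻¹) = F w := by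
  intro F hF v w
  have hu : ∀ s t : DihedralGroup 3, u3 (s * t * s⁻¹) = u3 t ∧ eps (s * t * s⁻¹) = eps t := by
    decide +kernel
  simp only [vTables, List.mem_cons, List.not_mem_nil, or_false] at hF
  rcases hF with rfl | rfl | rfl | rfl | rfl <;> simp [vE0, vF0, vE1, vF1, vR, hu]

theorem vTables_sq' : ∀ w : V, w * w = 1 →
    vE0 w = 0 ∧ vF0 w = 0 ∧ vE1 w = 0 ∧ vF1 w = 0 ∧ vR w = 0 := by decide +kernel

theorem vTables_sq : ∀ F ∈ vTables, ∀ w : V, w * w = 1 → F w = 0 := by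
  intro F hF w h
  obtain ⟨a, b, c, d, e⟩ := vTables_sq' w h
  simp only [vTables, List.mem_cons, List.not_mem_nil, or_false] at hF
  rcases hF with rfl | rfl | rfl | rfl | rfl <;> assumption

theorem isGen_vTables {H : Type*} [Group H] (φ : H →* V) :
    ∀ F ∈ vTables, IsGeneralizedCharacter H (fun h => (F (φ h) : ℂ)) := by
  have hu : ∀ π : V →* DihedralGroup 3, IsGeneralizedCharacter H (fun h => (u3 (π (φ h)) : ℂ)) :=
    fun π => CT.isGen_comp (π.comp φ) isGen_u3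
  have he : ∀ π : V →* DihedralGroup 3, IsGeneralizedCharacter H (fun h => (eps (π (φ h)) : ℂ)) :=
    fun π => CT.isGen_comp (π.comp φ) isGen_eps
  let px : V →* DihedralGroup 3 := MonoidHom.fst _ _
  let py : V →* DihedralGroup 3 := MonoidHom.snd _ _
  have h1 : IsGeneralizedCharacter H (fun _ => ((1 : ℤ) : ℂ)) := by
    simpa using CT.isGen_of_isCharacter (CT.isCharacter_one (G := H))
  intro F hF
  simp only [vTables, List.mem_cons, List.not_mem_nil, or_false] at hF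
  rcases hF with rfl | rfl | rfl | rfl | rfl
  · simpa [vE0, py] using hu py
  · simpa [vF0, px] using hu px
  · simpa [vE1, px, py] using isGen_int_mul (he px) (hu py)
  · simpa [vF1, px, py] using isGen_int_mul (hu px) (he py)
  · simpa [vR, px, py] using
      isGen_int_mul (isGen_int_sub (isGen_int_add h1 (he px)) (hu px)) (hu py)

theorem dotV_values :
    dotV vE0 vE0 = 108 ∧ dotV vF0 vF0 = 108 ∧ dotV vE1 vE1 = 108 ∧ dotV vF1 vF1 = 108 ∧
    dotV vR vR = 108 ∧ dotV vE0 (fun _ => 1) = 36 ∧ dotV vF0 (fun _ => 1) = 36 ∧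
    dotV vE1 (fun _ => 1) = 0 ∧ dotV vF1 (fun _ => 1) = 0 ∧ dotV vR (fun _ => 1) = 0 ∧
    dotV vE0 vF0 = 36 ∧ dotV vF1 vE0 = 36 ∧ dotV vF1 vF0 = 0 ∧ dotV vE1 vE0 = 0 ∧
    dotV vE1 vF0 = 36 ∧ dotV vE1 vF1 = 36 ∧ dotV vR vF0 = -36 ∧ dotV vR vF1 = -36 ∧
    dotV vR vE1 = 0 := by decide +kernel

theorem dotV_lin :
    dotV vF0 (lin 1 1) = 36 ∧ dotV vE0 (lin 1 1) = 36 ∧
    dotV vF0 (lin (-1) 1) = 36 ∧ dotV vE0 (lin (-1) 1) = 0 ∧
    dotV vF0 (lin (-1) (-1)) = 0 ∧ dotV vE0 (lin (-1) (-1)) = 0 := by decide +kernel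

theorem pairV_A :
    pairV tA vE0 = 0 ∧ pairV tA vE1 = 0 ∧ pairV tA vR = 0 ∧ pairV tA vF0 = 18 ∧
    pairV tA vF1 = 18 := by decide +kernel

theorem pairV_BC :
    pairV (fun w => tB w || tC w) vE0 = 288 ∧ pairV (fun w => tB w || tC w) vF0 = 162 ∧
    pairV (fun w => tB w || tC w) vF1 = 162 ∧ pairV (fun w => tB w || tC w) vE1 = 72 := by
  decide +kernel

theorem types_of_invol : ∀ w : V, w * w = 1 → w ≠ 1 → (tA w || tB w || tC w) = true := by
  decide +kernel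

theorem tA_conj : ∀ w : V,
    (tA w = true → ∃ v : V, v * (sr 0, 1) * v⁻¹ = w) ∧
    (tB w = true → ∃ v : V, v * (1, sr 0) * v⁻¹ = w) ∧
    (tC w = true → ∃ v : V, v * (sr 0, sr 0) * v⁻¹ = w) := by decide +kernel

theorem centralizer_B_card :
    (Finset.univ.filter fun w : V => w * (1, sr 0) = (1, sr 0) * w).card = 12 := by decide +kernel

theorem not_conj_powers : ∀ v : V, ∀ n : Fin 3,
    v * (1, r 1) * v⁻¹ ≠ (r 1, 1) ^ (n : ℕ) := by decide +kernel

theorem sq_rotV : ∀ w : V, rotV (w * w) = true := by decide +kernel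

theorem card_rotV : (Finset.univ.filter fun w : V => rotV w = true).card = 9 := by decide +kernel

theorem rotV_of_pow : ∀ w : V, w ^ 9 = 1 → rotV w = true := by decide +kernel

theorem rotV_comm : ∀ v w : V, rotV v = true → rotV w = true → v * w = w * v := by decide +kernel

theorem card_V : Fintype.card V = 36 := by decide +kernel

/-- Interchange of the coordinates. -/
def swapV : V ≃* V := MulEquiv.prodComm

theorem swapV_reps : swapV (sr 0, 1) = ((1, sr 0) : V) ∧ swapV (1, sr 0) = ((sr 0, 1) : V) ∧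
    swapV (sr 0, sr 0) = ((sr 0, sr 0) : V) := by decide +kernel

theorem gen_facts :
    ((r 1, 1) : V) ^ 3 = 1 ∧ (1 : V) ≠ (r 1, 1) ∧
    ((r 1, 1) : V) * (1, sr 0) = (1, sr 0) * (r 1, 1) ∧
    ((1, r 1) : V) * (sr 0, 1) = (sr 0, 1) * (1, r 1) ∧ ((1, r 1) : V) ^ 3 = 1 ∧
    ((1, r 1) : V) * (1, r 1) ≠ 1 ∧ rotV (r 1, 1) = true ∧ rotV (1, r 1) = true ∧
    (r 1 : DihedralGroup 3) ≠ 1 := by decide +kernel

theorem centralizer_B_rot : (Finset.univ.filter fun w : V =>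
    rotV w = true ∧ w * (1, sr 0) = (1, sr 0) * w).card = 3 := by decide +kernel

/-- Every homomorphism to a commutative group factors through the two reflection classes. -/
theorem hom_form (μ : V →* ℂˣ) : ∃ σ τ : ℤ, (σ = 1 ∨ σ = -1) ∧ (τ = 1 ∨ τ = -1) ∧
    ∀ w, (μ w : ℂ) = (lin σ τ w : ℂ) := by
  have hs : ∀ s : DihedralGroup 3, (cl s ≠ 2 → ∃ g, s = sr 0 * (g * sr 0 * g⁻¹)) ∧
      (cl s = 2 → ∃ g, s = g * sr 0 * g⁻¹) := by decide +kernel
  have key : ∀ ν : DihedralGroup 3 →* ℂˣ, ∃ σ : ℤ, (σ = 1 ∨ σ = -1) ∧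
      ∀ s, (ν s : ℂ) = ((if cl s = 2 then σ else 1 : ℤ) : ℂ) := by
    intro ν
    have hsq : (ν (sr 0) : ℂ) * (ν (sr 0) : ℂ) = 1 := by
      rw [← Units.val_mul, ← map_mul, sr_mul_sr, sub_self, r_zero, map_one, Units.val_one]
    have hconj : ∀ g, ν (g * sr 0 * g⁻¹) = ν (sr 0) := fun g => by
      rw [map_mul, map_mul, map_inv, mul_comm (ν g), mul_inv_cancel_right]
    have hone : ∀ s, cl s ≠ 2 → (ν s : ℂ) = 1 := fun s h => by
      obtain ⟨g, rfl⟩ := (hs s).1 h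
      rw [map_mul, hconj, Units.val_mul, hsq]
    have hrefl : ∀ s, cl s = 2 → (ν s : ℂ) = ν (sr 0) := fun s h => by
      obtain ⟨g, rfl⟩ := (hs s).2 h
      rw [hconj]
    rcases mul_self_eq_one_iff.mp hsq with e | e
    · refine ⟨1, Or.inl rfl, fun s => ?_⟩
      by_cases h : cl s = 2
      · rw [hrefl s h, e]; simp
      · rw [hone s h]; simp [h]
    · refine ⟨-1, Or.inr rfl, fun s => ?_⟩
      by_cases h : cl s = 2
      · rw [hrefl s h, e]; simp [h]
      · rw [hone s h]; simp [h]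
  obtain ⟨σ, hσ, e1⟩ := key (μ.comp (MonoidHom.inl _ _))
  obtain ⟨τ, hτ, e2⟩ := key (μ.comp (MonoidHom.inr _ _))
  refine ⟨σ, τ, hσ, hτ, fun w => ?_⟩
  have : w = (w.1, 1) * (1, w.2) := by simp
  conv_lhs => rw [this, map_mul, Units.val_mul]
  rw [lin, Int.cast_mul, ← e1 w.1, ← e2 w.2]
  rfl

end Cfsg.Agent.NineV4
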