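import Cfsg.Agent.Lib.Recog.NineV4.Arith
import Cfsg.Agent.Lib.Recog.NineV4.Model
import Cfsg.Agent.Lib.Recog.TISetup.Basic
import Cfsg.Agent.Lib.Basics.CoprimeGen
import Mathlib.GroupTheory.Transfer

/-!
A group with a subgroup `3^2 : 2^2` containing the centralizers of the 3-elements coincides with it.
-/

set_option autoImplicit false
set_option linter.unusedSectionVars false
set_option linter.style.haveILetI false

namespace Cfsg.Agent.NineV4

open DihedralGroup ThreeCubed

universe u

variable {G : Type u} [Group G]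

/-- The hypotheses with a chosen identification with the model. -/
structure Setup (H T : Subgroup G) (e : H ≃* V) : Prop where
  hTH : T ≤ H
  hT : Nat.card T = 9
  hN : Subgroup.normalizer (T : Set G) = H
  hC : ∀ t ∈ T, t ≠ 1 → Subgroup.centralizer ({t} : Set G) ≤ H

variable {H T : Subgroup G} {e : H ≃* V} [Fintype G] [Fintype H]

namespace Setup

theorem comp_swap (S : Setup H T e) : Setup H T (e.trans swapV) := ⟨S.hTH, S.hT, S.hN, S.hC⟩

theorem sum_model (φ : V → ℤ) : ∑ h : H, φ (e h) = ∑ w : V, φ w :=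
  Fintype.sum_equiv e.toEquiv _ _ fun _ => rfl

theorem card_H (_S : Setup H T e) : Nat.card H = 36 := by
  rw [Nat.card_congr e.toEquiv, Nat.card_eq_fintype_card, card_V]

theorem mem_T_iff (S : Setup H T e) (h : H) : (h : G) ∈ T ↔ rotV (e h) = true := by
  classical
  have h1 : Finset.univ.filter (fun h : H => (h : G) ∈ T) ⊆
      Finset.univ.filter (fun h : H => rotV (e h) = true) := by
    intro x hx
    simp only [Finset.mem_filter, Finset.mem_univ, true_and] at hx ⊢
    refine rotV_of_pow _ ?_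
    rw [← map_pow]
    have : (⟨(x : G), hx⟩ : T) ^ Nat.card T = 1 := pow_card_eq_one'
    rw [S.hT] at this
    have : x ^ 9 = 1 := Subtype.ext (by simpa using congrArg Subtype.val this)
    rw [this, map_one]
  have h2 : (Finset.univ.filter fun h : H => rotV (e h) = true).card ≤
      (Finset.univ.filter fun h : H => (h : G) ∈ T).card := by
    have a : (Finset.univ.filter fun h : H => rotV (e h) = true).card ≤
        (Finset.univ.filter fun w : V => rotV w = true).card :=
      Finset.card_le_card_of_injOn e (fun x hx => by simpa using hx)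
        fun a _ b _ h => e.injective h
    have b : (Finset.univ.filter fun h : H => (h : G) ∈ T).card = Nat.card T := by
      rw [← Fintype.card_subtype, ← Nat.card_eq_fintype_card]
      exact Nat.card_congr ⟨fun x => ⟨(x.1 : G), x.2⟩, fun x => ⟨⟨(x : G), S.hTH x.2⟩, x.2⟩,
        fun x => rfl, fun x => rfl⟩
    rw [card_rotV] at a
    rw [b, S.hT]
    exact a
  simpa using Finset.ext_iff.mp (Finset.eq_of_subset_of_card_le h1 h2) h

theorem T_comm (S : Setup H T e) {x y : G} (hx : x ∈ T) (hy : y ∈ T) : x * y = y * x := by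
  have he := rotV_comm _ _ ((S.mem_T_iff ⟨x, S.hTH hx⟩).mp hx)
    ((S.mem_T_iff ⟨y, S.hTH hy⟩).mp hy)
  rw [← map_mul, ← map_mul] at he
  exact congrArg Subtype.val (e.injective he)

theorem mem_H_of_map (S : Setup H T e) {g : G} (sub : ∀ x ∈ T, g * x * g⁻¹ ∈ T) : g ∈ H := by
  rw [← S.hN, Subgroup.mem_normalizer_iff]
  intro x
  refine ⟨sub x, fun hx => ?_⟩
  have hmap : T.map (MulAut.conj g).toMonoidHom = T := by
    refine Subgroup.eq_of_le_of_card_ge (Subgroup.map_le_iff_le_comap.mpr fun y hy => sub y hy) ?_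
    rw [Subgroup.card_map_of_injective (MulAut.conj g).injective]
  rw [← hmap] at hx
  obtain ⟨y, hy, he⟩ := Subgroup.mem_map.mp hx
  have : y = x := (MulAut.conj g).injective (by simpa using he)
  exact this ▸ hy

/-- `H` controls the fusion of its elements outside the involutions. -/
theorem fusion (S : Setup H T e) (h : H) (hh : h * h ≠ 1) (g : G)
    (hg : g * (h : G) * g⁻¹ ∈ H) : g ∈ H := by
  have hs : (h : G) * h ∈ T := by
    rw [← Subgroup.coe_mul, S.mem_T_iff, map_mul]
    exact sq_rotV _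
  have hs' : g * ((h : G) * h) * g⁻¹ ∈ T := by
    rw [show g * ((h : G) * h) * g⁻¹ = g * h * g⁻¹ * (g * h * g⁻¹) by group]
    have := (S.mem_T_iff (⟨_, hg⟩ * ⟨_, hg⟩ : H)).mpr (by rw [map_mul]; exact sq_rotV _)
    exact this
  have hne : g * ((h : G) * h) * g⁻¹ ≠ 1 := fun he => hh (Subtype.ext (by simpa using he))
  refine S.mem_H_of_map fun x hx => ?_
  have hc : g * x * g⁻¹ ∈ H := by
    refine S.hC _ hs' hne (Subgroup.mem_centralizer_singleton_iff.mpr ?_)
    calc g * x * g⁻¹ * (g * ((h : G) * h) * g⁻¹) = g * (x * ((h : G) * h)) * g⁻¹ := by group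
      _ = g * ((h : G) * h * x) * g⁻¹ := by rw [S.T_comm hx hs]
      _ = g * ((h : G) * h) * g⁻¹ * (g * x * g⁻¹) := by group
  refine (S.mem_T_iff ⟨_, hc⟩).mpr (rotV_of_pow _ ?_)
  rw [← map_pow]
  have hx9 : x ^ 9 = 1 := by
    have : (⟨x, hx⟩ : T) ^ Nat.card T = 1 := pow_card_eq_one'
    rw [S.hT] at this
    simpa using congrArg Subtype.val this
  have : (⟨g * x * g⁻¹, hc⟩ : H) ^ 9 = 1 := Subtype.ext (by simp [conj_pow, hx9])
  rw [this, map_one]

/-- The first two types are never conjugate. -/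
theorem not_conj_AB (S : Setup H T e) {a b : H} (ea : e a = (sr 0, 1)) (eb : e b = (1, sr 0)) :
    ¬ IsConj (a : G) (b : G) := by
  intro hab
  classical
  haveI : Fact (Nat.Prime 3) := ⟨Nat.prime_three⟩
  obtain ⟨g, hg⟩ := isConj_iff.mp hab
  obtain ⟨z, ez⟩ := e.surjective (1, r 1)
  obtain ⟨z', ez'⟩ := e.surjective (r 1, 1)
  set L := Subgroup.centralizer ({(b : G)} : Set G) with hL
  have hz'3 : (z' : G) ^ 3 = 1 := by
    have : z' ^ 3 = 1 := e.injective (by rw [map_pow, ez', map_one]; exact gen_facts.1)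
    simpa using congrArg Subtype.val this
  have hz'1 : z' ≠ 1 := fun h => by
    rw [h, map_one] at ez'
    exact absurd ez' (show (1 : V) ≠ (r 1, 1) by exact gen_facts.2.1)
  have hord : orderOf (z' : G) = 3 :=
    orderOf_eq_prime hz'3 fun h => hz'1 (Subtype.ext h)
  have hz'L : (z' : G) ∈ L := by
    refine Subgroup.mem_centralizer_singleton_iff.mpr ?_
    have : z' * b = b * z' := e.injective (by rw [map_mul, map_mul, ez', eb]; exact gen_facts.2.2.1)
    exact congrArg Subtype.val this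
  set Z := (Subgroup.zpowers (z' : G)).subgroupOf L with hZ
  have hZle : Subgroup.zpowers (z' : G) ≤ L := Subgroup.zpowers_le.mpr hz'L
  have hZcard : Nat.card Z = 3 := by
    rw [Nat.card_congr (Subgroup.subgroupOfEquivOfLe hZle).toEquiv, Nat.card_zpowers, hord]
  have hz'sq : z' * z' ≠ 1 := fun h => hz'1 (by
    have : z' ^ 3 = 1 := Subtype.ext (by simpa using hz'3)
    rw [pow_succ, pow_two, h, one_mul] at this
    exact this)
  have hNH : ∀ x : L, x ∈ Subgroup.normalizer (Z : Set L) → (x : G) ∈ H := by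
    intro x hx
    refine S.fusion z' hz'sq _ ?_
    have h1 : (⟨(z' : G), hz'L⟩ : L) ∈ Z := Subgroup.mem_zpowers (z' : G)
    have h2 : x * ⟨(z' : G), hz'L⟩ * x⁻¹ ∈ Z := (Subgroup.mem_normalizer_iff.mp hx _).mp h1
    have h3 : (x : G) * z' * (x : G)⁻¹ ∈ Subgroup.zpowers (z' : G) := h2
    exact Subgroup.zpowers_le.mpr z'.2 h3
  have hidx : ¬ 3 ∣ Z.index := by
    intro h
    have h9 : 9 ∣ Nat.card L := by
      rw [← Subgroup.card_mul_index Z, hZcard]
      exact mul_dvd_mul_left 3 h
    have h2 := Sylow.card_normalizer_modEq_card (p := 3) (n := 1) (H := Z) (by simpa using hZcard)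
    have hK : Nat.card (Subgroup.normalizer (Z : Set L)) ≤ 12 := by
      have hinj : Function.Injective (fun x : Subgroup.normalizer (Z : Set L) =>
          (⟨e ⟨((x : L) : G), hNH _ x.2⟩, by
            rw [← eb, ← map_mul, ← map_mul]
            exact congrArg e (Subtype.ext
              (Subgroup.mem_centralizer_singleton_iff.mp (x : L).2))⟩ :
            {w : V // w * (1, sr 0) = (1, sr 0) * w})) := by
        intro x y hxy
        exact Subtype.ext (Subtype.ext
          (congrArg (fun t : H => (t : G)) (e.injective (congrArg Subtype.val hxy))))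
      refine (Nat.card_le_card_of_injective _ hinj).trans (le_of_eq ?_)
      rw [Nat.card_eq_fintype_card, Fintype.card_subtype, centralizer_B_card]
    have h27 : 3 ∣ Nat.card (Subgroup.normalizer (Z : Set L)) :=
      hZcard ▸ Subgroup.card_dvd_of_le Subgroup.le_normalizer
    have hpos : 0 < Nat.card (Subgroup.normalizer (Z : Set L)) := Nat.card_pos
    have h9' : 9 ∣ Nat.card (Subgroup.normalizer (Z : Set L)) := by
      unfold Nat.ModEq at h2
      norm_num [-Nat.card_eq_fintype_card] at h2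
      omega
    obtain ⟨k, hk⟩ := h9'
    have hk1 : Nat.card (Subgroup.normalizer (Z : Set L)) = 9 := by omega
    have hle : Nat.card (Subgroup.normalizer (Z : Set L)) ∣ 36 := by
      rw [← S.card_H]
      refine Subgroup.card_dvd_of_injective
        ({ toFun := fun x => ⟨((x : L) : G), hNH _ x.2⟩
           map_one' := rfl
           map_mul' := fun _ _ => rfl } : Subgroup.normalizer (Z : Set L) →* H) ?_
      intro x y hxy
      exact Subtype.ext (Subtype.ext (congrArg (fun t : H => (t : G)) hxy))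
    -- the image is a subgroup of the centralizer of `b` of order nine
    have hsq : ∀ x : Subgroup.normalizer (Z : Set L), rotV (e ⟨((x : L) : G), hNH _ x.2⟩) = true := by
      intro x
      refine rotV_of_pow _ ?_
      rw [← map_pow]
      have : x ^ 9 = 1 := hk1 ▸ pow_card_eq_one'
      have h' : ((x : L) : G) ^ 9 = 1 := by
        simpa using congrArg (fun t : Subgroup.normalizer (Z : Set L) => ((t : L) : G)) this
      rw [show (⟨((x : L) : G), hNH _ x.2⟩ : H) ^ 9 = 1 from Subtype.ext (by simpa using h'), map_one]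
    have hinj : Function.Injective (fun x : Subgroup.normalizer (Z : Set L) =>
        (⟨e ⟨((x : L) : G), hNH _ x.2⟩, hsq x, by
          rw [← eb, ← map_mul, ← map_mul]
          exact congrArg e (Subtype.ext
            (Subgroup.mem_centralizer_singleton_iff.mp (x : L).2))⟩ :
          {w : V // rotV w = true ∧ w * (1, sr 0) = (1, sr 0) * w})) := by
      intro x y hxy
      exact Subtype.ext (Subtype.ext
        (congrArg (fun t : H => (t : G)) (e.injective (congrArg Subtype.val hxy))))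
    have h3 := Nat.card_le_card_of_injective _ hinj
    have hc : (Finset.univ.filter fun w : V =>
        rotV w = true ∧ w * (1, sr 0) = (1, sr 0) * w).card = 3 := by exact centralizer_B_rot
    rw [Nat.card_eq_fintype_card (α := {w : V // _}), Fintype.card_subtype, hc] at h3
    omega
  set P : Sylow 3 L := (IsPGroup.of_card (n := 1) (by simpa using hZcard) : IsPGroup 3 Z).toSylow hidx
  -- the conjugate of `z` lies in some conjugate of `Z`
  have hzL : g * (z : G) * g⁻¹ ∈ L := by
    refine Subgroup.mem_centralizer_singleton_iff.mpr ?_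
    have hza : z * a = a * z := e.injective (by rw [map_mul, map_mul, ez, ea]; exact gen_facts.2.2.2.1)
    have hza' : (z : G) * a = a * z := congrArg Subtype.val hza
    rw [← hg]
    calc g * (z : G) * g⁻¹ * (g * a * g⁻¹) = g * ((z : G) * a) * g⁻¹ := by group
      _ = g * ((a : G) * z) * g⁻¹ := by rw [hza']
      _ = g * a * g⁻¹ * (g * z * g⁻¹) := by group
  have hz3 : (z : G) ^ 3 = 1 := by
    have : z ^ 3 = 1 := e.injective (by rw [map_pow, ez, map_one]; exact gen_facts.2.2.2.2.1)
    simpa using congrArg Subtype.val this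
  set y : L := ⟨_, hzL⟩ with hy
  have hy3 : y ^ 3 ^ 1 = 1 := Subtype.ext (by simp [hy, conj_pow, hz3])
  obtain ⟨Q, hQ⟩ := IsPGroup.exists_le_sylow
    (show IsPGroup 3 (Subgroup.zpowers y) from fun w => ⟨1, by
      obtain ⟨m, hm⟩ := Subgroup.mem_zpowers_iff.mp w.2
      refine Subtype.ext ?_
      simp only [Subgroup.coe_pow, Subgroup.coe_one, ← hm]
      rw [← zpow_natCast, ← zpow_mul, mul_comm, zpow_mul, zpow_natCast, hy3, one_zpow]⟩)
  obtain ⟨l, hl⟩ := MulAction.exists_smul_eq L Q P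
  have hmem : l * y * l⁻¹ ∈ Z := by
    have h1 : MulAut.conj l y ∈ ((l • Q : Sylow 3 L) : Subgroup L) := by
      rw [Sylow.coe_subgroup_smul]
      exact Subgroup.smul_mem_pointwise_smul _ _ _ (hQ (Subgroup.mem_zpowers y))
    rw [hl] at h1
    exact h1
  have hmem' : (l : G) * g * z * ((l : G) * g)⁻¹ ∈ Subgroup.zpowers (z' : G) := by
    have : ((l * y * l⁻¹ : L) : G) ∈ Subgroup.zpowers (z' : G) := hmem
    simpa [hy, mul_assoc] using this
  have hzsq : z * z ≠ 1 := fun h => by
    have := congrArg e h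
    rw [map_mul, ez, map_one] at this
    exact absurd this (show ((1, r 1) : V) * (1, r 1) ≠ 1 by exact gen_facts.2.2.2.2.2.1)
  have hk : (l : G) * g ∈ H := S.fusion z hzsq _ (Subgroup.zpowers_le.mpr z'.2 hmem')
  rw [← mem_powers_iff_mem_zpowers] at hmem'
  obtain ⟨n, hn⟩ := hmem'
  have hn' : (z' : G) ^ (n % 3) = (l : G) * g * z * ((l : G) * g)⁻¹ := by
    rw [← pow_eq_pow_mod n hz'3]
    exact hn
  have heq : z' ^ (n % 3) = (⟨_, hk⟩ : H) * z * (⟨_, hk⟩ : H)⁻¹ :=
    Subtype.ext (by simpa using hn')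
  have := congrArg e heq
  rw [map_pow, ez', map_mul, map_mul, map_inv, ez] at this
  exact not_conj_powers _ ⟨n % 3, Nat.mod_lt _ (by norm_num)⟩ this.symm

/-- A table as a function on `H`. -/
def fn (e : H ≃* V) (F : V → ℤ) : H → ℤ := fun h => F (e h)

theorem good (_S : Setup H T e) {F : V → ℤ} (hF : F ∈ vTables) : TISetup.Good H (fn e F) :=
  ⟨fun x g => by simp [fn, vTables_class F hF], isGen_vTables e.toMonoidHom F hF,
    fun h hh => vTables_sq F hF _ (by rw [← map_mul, hh, map_one])⟩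

theorem dot (S : Setup H T e) {F F' : V → ℤ} (hF : F ∈ vTables) (hF' : F' ∈ vTables) :
    36 * ∑ χ : IrrCharacter G, TISetup.coef (fn e F) χ * TISetup.coef (fn e F') χ = dotV F F' := by
  have h := TISetup.coef_dot (f := fn e F) (f' := fn e F') (fun h hh => S.fusion h hh.1)
    (S.good hF) (S.good hF')
  rw [S.card_H] at h
  refine h.trans ?_
  exact Fintype.sum_equiv e.toEquiv _ _ fun _ => rfl

theorem dot_lin (S : Setup H T e) {F : V → ℤ} (hF : F ∈ vTables) (χ : IrrCharacter G) (L : V → ℤ)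
    (hL : ∀ h : H, (χ : G → ℂ) h = (L (e h) : ℂ)) :
    36 * TISetup.coef (fn e F) χ = dotV F L := by
  have h := TISetup.coef_lin (S.good hF) χ (fn e L) hL
  rw [S.card_H] at h
  refine h.trans ?_
  exact Fintype.sum_equiv e.toEquiv _ _ fun _ => rfl

theorem isF (S : Setup H T e) {F : V → ℤ} (hF : F ∈ vTables) (hn : dotV F F = 108)
    (h1 : dotV F (fun _ => 1) = 36) {u : G} (hu : u * u = 1) :
    ThreeCubed.Arith.IsF (CT.trivIrr G) TISetup.cdeg (TISetup.cval u) (TISetup.coef (fn e F)) := by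
  refine ⟨?_, ?_, TISetup.coef_deg (S.good hF), TISetup.coef_val (S.good hF) hu⟩
  · have := S.dot_lin hF (CT.trivIrr G) (fun _ => 1) (fun h => by simp)
    omega
  · have := S.dot hF hF
    omega

theorem isG (S : Setup H T e) {F : V → ℤ} (hF : F ∈ vTables) (hn : dotV F F = 108)
    (h1 : dotV F (fun _ => 1) = 0) {u : G} (hu : u * u = 1) :
    ThreeCubed.Arith.IsG (CT.trivIrr G) TISetup.cdeg (TISetup.cval u) (TISetup.coef (fn e F)) := by
  refine ⟨?_, ?_, TISetup.coef_deg (S.good hF), TISetup.coef_val (S.good hF) hu⟩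
  · have := S.dot_lin hF (CT.trivIrr G) (fun _ => 1) (fun h => by simp)
    omega
  · have := S.dot hF hF
    omega

theorem pairs (S : Setup H T e) {F : V → ℤ} (hF : F ∈ vTables) {u : G} (hu : u * u = 1)
    (P : V → Bool) (hP : ∀ h : H, IsConj u (h : G) ↔ P (e h) = true) :
    36 * (TISetup.kappa u * ThreeCubed.Arith.Lsum TISetup.cdeg (TISetup.cval u)
      (TISetup.coef (fn e F))) = (pairV P F : ℚ) := by
  classical
  have h := TISetup.pair_identity (f := fn e F)
    (fun h hh => S.fusion h fun a => hh ((S.good hF).sq h a)) (S.good hF) hu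
    (fun h => P (e h) = true) hP
  rw [S.card_H] at h
  refine (by exact_mod_cast h : _ = _).trans ?_
  congr 1
  rw [pairV]
  refine Finset.sum_equiv e.toEquiv (fun i => by simp) fun y _ => ?_
  refine Finset.sum_equiv e.toEquiv (fun i => by simp) fun z _ => ?_
  simp [fn]

theorem typ_of_conj (S : Setup H T e) {u h : H} (hu : u * u = 1) (hu1 : u ≠ 1)
    (hc : IsConj (u : G) (h : G)) : (tA (e h) || tB (e h) || tC (e h)) = true := by
  obtain ⟨c, hc⟩ := isConj_iff.mp hc
  have hu' : (u : G) * u = 1 := congrArg Subtype.val hu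
  refine types_of_invol _ ?_ ?_
  · rw [← map_mul, ← map_one e]
    refine congrArg e (Subtype.ext ?_)
    show (h : G) * h = 1
    rw [← hc, show c * u * c⁻¹ * (c * u * c⁻¹) = c * ((u : G) * u) * c⁻¹ by group, hu', mul_one,
      mul_inv_cancel]
  · intro he
    rw [← map_one e] at he
    have h1 := e.injective he
    rw [h1, Subgroup.coe_one, conj_eq_one_iff] at hc
    exact hu1 (Subtype.ext hc)

theorem conj_of (S : Setup H T e) {h0 h : H} {rr : V} (e0 : e h0 = rr)
    (hh : ∃ v : V, v * rr * v⁻¹ = e h) : IsConj (h0 : G) (h : G) := by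
  obtain ⟨v, hv⟩ := hh
  obtain ⟨k, rfl⟩ := e.surjective v
  rw [← e0, ← map_inv, ← map_mul, ← map_mul] at hv
  exact isConj_iff.mpr ⟨k, congrArg Subtype.val (e.injective hv)⟩

/-- An isolated first type gives the sign of the second coordinate, and separates the others. -/
theorem isolated (S : Setup H T e) {a b c : H} (ea : e a = (sr 0, 1)) (eb : e b = (1, sr 0))
    (ec : e c = (sr 0, sr 0)) (hac : ¬ IsConj (a : G) (c : G)) :
    (∃ sgn : G →* ℂˣ, ∀ h : H, (sgn h : ℂ) = (lin 1 (-1) (e h) : ℂ)) ∧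
      ¬ IsConj (b : G) (c : G) := by
  classical
  have hsq : ∀ {x : H} {rr : V}, e x = rr → rr * rr = 1 → x * x = 1 := fun hx hr =>
    e.injective (by rw [map_mul, hx, hr, map_one])
  have hne : ∀ {x : H} {rr : V}, e x = rr → rr ≠ 1 → x ≠ 1 := fun hx hr h => hr (by
    rw [← hx, h, map_one])
  have ha2 := hsq ea (by decide +kernel)
  have ha1 := hne ea (by decide +kernel)
  have hu : (a : G) * a = 1 := congrArg Subtype.val ha2
  have hab := S.not_conj_AB ea eb
  have hP : ∀ h : H, IsConj (a : G) (h : G) ↔ tA (e h) = true := by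
    intro h
    refine ⟨fun hc => ?_, fun h' => S.conj_of ea ((tA_conj _).1 h')⟩
    have := S.typ_of_conj ha2 ha1 hc
    simp only [Bool.or_eq_true] at this
    rcases this with (x | y) | z
    · exact x
    · exact absurd (hc.trans (S.conj_of eb ((tA_conj _).2.1 y)).symm) hab
    · exact absurd (hc.trans (S.conj_of ec ((tA_conj _).2.2 z)).symm) hac
  have mE0 : vE0 ∈ vTables := by simp [vTables]
  have mF0 : vF0 ∈ vTables := by simp [vTables]
  have mE1 : vE1 ∈ vTables := by simp [vTables]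
  have mF1 : vF1 ∈ vTables := by simp [vTables]
  have mR : vR ∈ vTables := by simp [vTables]
  obtain ⟨n1, n2, n3, n4, n5, o1, o2, o3, o4, o5, d1, d2, d3, d4, d5, d6, d7, d8, d9⟩ := dotV_values
  obtain ⟨v1, v2, v3, v4, v5⟩ := pairV_A
  have l1 := S.pairs mE0 hu tA hP
  have l2 := S.pairs mE1 hu tA hP
  have l3 := S.pairs mR hu tA hP
  have l4 := S.pairs mF0 hu tA hP
  have l5 := S.pairs mF1 hu tA hP
  rw [v1] at l1; rw [v2] at l2; rw [v3] at l3; rw [v4] at l4; rw [v5] at l5
  push_cast at l1 l2 l3 l4 l5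
  have e1 := S.dot mE0 mF0
  have e2 := S.dot mF1 mE0
  have e3 := S.dot mF1 mF0
  have e4 := S.dot mE1 mE0
  have e5 := S.dot mE1 mF0
  have e6 := S.dot mE1 mF1
  have e7 := S.dot mR mF0
  have e8 := S.dot mR mF1
  have e9 := S.dot mR mE1
  have cancel : ∀ {x y : ℚ}, 36 * (TISetup.kappa (a : G) * x) = 36 * (TISetup.kappa (a : G) * y) →
      x = y := fun h =>
    mul_left_cancel₀ (TISetup.kappa_pos (a : G)).ne' (mul_left_cancel₀ (by norm_num) h)
  obtain ⟨p, p', q, q', w, w', z, hS, hvp⟩ := Arith.exists_shape (t := CT.trivIrr G)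
    TISetup.cdeg_pos TISetup.cdeg_triv (TISetup.cval_triv (a : G))
    (S.isF mE0 n1 o1 hu) (S.isF mF0 n2 o2 hu) (S.isG mE1 n3 o3 hu) (S.isG mF1 n4 o4 hu)
    (S.isG mR n5 o5 hu) (by omega) (by omega) (by omega) (by omega) (by omega) (by omega)
    (by omega) (by omega) (by omega)
    (cancel (by rw [l1]; ring)) (cancel (by rw [l2]; ring)) (cancel (by rw [l3]; ring))
    (cancel (by rw [l4, l5])) (fun h => by rw [h] at l4; norm_num at l4)
  obtain ⟨lam, hlam⟩ := TISetup.exists_hom p hS.degp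
  obtain ⟨σ, τ, hσ, hτ, hform⟩ := hom_form ((lam.comp H.subtype).comp e.symm.toMonoidHom)
  have hL : ∀ h : H, (p : G → ℂ) h = (lin σ τ (e h) : ℂ) := by
    intro h
    rw [hlam, ← hform]
    simp
  have c1 := S.dot_lin mF0 p _ hL
  have c2 := S.dot_lin mE0 p _ hL
  rw [hS.f0p] at c1
  rw [hS.e0p] at c2
  obtain ⟨s1, s2, s3, s4, s5, s6⟩ := dotV_lin
  obtain ⟨rfl, rfl⟩ : σ = 1 ∧ τ = -1 := by
    rcases hσ with rfl | rfl <;> rcases hτ with rfl | rfl <;> first | exact ⟨rfl, rfl⟩ | omega
  refine ⟨⟨lam, fun h => ?_⟩, fun hbc => ?_⟩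
  · rw [← hL, hlam]
  -- the other two types fused
  have hb2 := hsq eb (by decide +kernel)
  have hb1 := hne eb (by decide +kernel)
  have hu' : (b : G) * b = 1 := congrArg Subtype.val hb2
  have hP' : ∀ h : H, IsConj (b : G) (h : G) ↔ (tB (e h) || tC (e h)) = true := by
    intro h
    refine ⟨fun hc => ?_, fun h' => ?_⟩
    · have := S.typ_of_conj hb2 hb1 hc
      simp only [Bool.or_eq_true] at this ⊢
      rcases this with (x | y) | z
      · exact absurd ((S.conj_of ea ((tA_conj _).1 x)).trans hc.symm) hab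
      · exact Or.inl y
      · exact Or.inr z
    · simp only [Bool.or_eq_true] at h'
      rcases h' with y | z
      · exact S.conj_of eb ((tA_conj _).2.1 y)
      · exact hbc.trans (S.conj_of ec ((tA_conj _).2.2 z))
  obtain ⟨w1, w2, w3, w4⟩ := pairV_BC
  have m1 := S.pairs mE0 hu' (fun w => tB w || tC w) hP'
  have m2 := S.pairs mF0 hu' (fun w => tB w || tC w) hP'
  have m3 := S.pairs mF1 hu' (fun w => tB w || tC w) hP'
  have m4 := S.pairs mE1 hu' (fun w => tB w || tC w) hP'
  rw [w1] at m1; rw [w2] at m2; rw [w3] at m3; rw [w4] at m4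
  push_cast at m1 m2 m3 m4
  have hvb : TISetup.cval (b : G) p = -1 := by
    have := TISetup.cval_eq hu' p
    rw [hL, eb, show lin 1 (-1) ((1, sr 0) : V) = -1 by decide +kernel] at this
    exact_mod_cast this.symm
  have cancel' : ∀ {x y : ℚ}, 36 * (TISetup.kappa (b : G) * x) = 36 * (TISetup.kappa (b : G) * y) →
      x = y := fun h =>
    mul_left_cancel₀ (TISetup.kappa_pos (b : G)).ne' (mul_left_cancel₀ (by norm_num) h)
  exact Arith.no_pair TISetup.cdeg_pos TISetup.cdeg_triv (TISetup.cval_triv (b : G)) hS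
    (S.isF mE0 n1 o1 hu') (S.isF mF0 n2 o2 hu') (S.isG mE1 n3 o3 hu') (S.isG mF1 n4 o4 hu') hvb
    (cancel' (by linear_combination 9 * m1 - 16 * m2)) (cancel' (by rw [m2, m3]))
    (cancel' (by linear_combination m1 - 4 * m4))

/-- Two signs force `H` to be everything. -/
theorem eq_top_of_two_signs (S : Setup H T e) {s₁ s₂ : G →* ℂˣ}
    (h₁ : ∀ h : H, (s₁ h : ℂ) = (lin 1 (-1) (e h) : ℂ))
    (h₂ : ∀ h : H, (s₂ h : ℂ) = (lin 1 (-1) (swapV (e h)) : ℂ)) : H = ⊤ := by
  classical
  haveI : Fact (Nat.Prime 3) := ⟨Nat.prime_three⟩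
  haveI := s₁.normal_ker
  haveI := s₂.normal_ker
  set M₀ := s₁.ker ⊓ s₂.ker with hM
  haveI : M₀.Normal := Subgroup.normal_inf_normal _ _
  have hlin : ∀ w : V, (lin 1 (-1) w = 1 ∧ lin 1 (-1) (swapV w) = 1) ↔ rotV w = true := by
    decide +kernel
  have hmem : ∀ h : H, (h : G) ∈ M₀ ↔ rotV (e h) = true := by
    intro h
    rw [hM, Subgroup.mem_inf, MonoidHom.mem_ker, MonoidHom.mem_ker, ← Units.val_eq_one,
      ← Units.val_eq_one, h₁, h₂, ← hlin]
    exact and_congr (by exact_mod_cast Iff.rfl) (by exact_mod_cast Iff.rfl)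
  have hTM : T ≤ M₀ := fun x hx => (hmem ⟨x, S.hTH hx⟩).mpr ((S.mem_T_iff ⟨x, S.hTH hx⟩).mp hx)
  have hTp : IsPGroup 3 T := IsPGroup.of_card (n := 2) (by rw [S.hT]; norm_num)
  have hp : IsPGroup 3 (T.subgroupOf M₀) := hTp.of_equiv (Subgroup.subgroupOfEquivOfLe hTM).symm
  have hidx : ¬ 3 ∣ (T.subgroupOf M₀).index := by
    intro h
    have h27 : 27 ∣ Nat.card G := by
      refine dvd_trans ?_ (Subgroup.card_subgroup_dvd_card M₀)
      rw [← Subgroup.card_mul_index (T.subgroupOf M₀),
        Nat.card_congr (Subgroup.subgroupOfEquivOfLe hTM).toEquiv, S.hT]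
      exact mul_dvd_mul_left 9 h
    have h2 := Sylow.card_normalizer_modEq_card (p := 3) (n := 2) (H := T) (by simpa using S.hT)
    rw [S.hN, S.card_H] at h2
    unfold Nat.ModEq at h2
    norm_num [-Nat.card_eq_fintype_card] at h2
    omega
  set P : Sylow 3 M₀ := hp.toSylow hidx with hPdef
  have hnc : Subgroup.normalizer (P : Set M₀) ≤ Subgroup.centralizer (P : Set M₀) := by
    intro x hx
    have hxH : (x : G) ∈ H := by
      refine S.mem_H_of_map fun y hy => ?_
      have hy' : (⟨y, hTM hy⟩ : M₀) ∈ (P : Subgroup M₀) := hy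
      exact (Subgroup.mem_normalizer_iff.mp hx ⟨y, hTM hy⟩).mp hy'
    have hxT : (x : G) ∈ T := (S.mem_T_iff ⟨x, hxH⟩).mpr ((hmem ⟨x, hxH⟩).mp x.2)
    refine Subgroup.mem_centralizer_iff.mpr fun y hy => Subtype.ext ?_
    exact S.T_comm (x := (y : G)) hy hxT
  set O := (MonoidHom.transferSylow P hnc).ker with hO
  have hcompl := MonoidHom.ker_transferSylow_isComplement' P hnc
  have hdvd := MonoidHom.not_dvd_card_ker_transferSylow P hnc
  set K := O.map M₀.subtype with hK
  have hcardK : Nat.card K = Nat.card O := Subgroup.card_map_of_injective M₀.subtype_injective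
  obtain ⟨a, ha⟩ := e.surjective (r 1, 1)
  obtain ⟨b, hb⟩ := e.surjective (1, r 1)
  have haT : (a : G) ∈ T := (S.mem_T_iff a).mpr (by rw [ha]; exact gen_facts.2.2.2.2.2.2.1)
  have hbT : (b : G) ∈ T := (S.mem_T_iff b).mpr (by rw [hb]; exact gen_facts.2.2.2.2.2.2.2.1)
  haveI : IsMulCommutative T := ⟨⟨fun x y => Subtype.ext (S.T_comm x.2 y.2)⟩⟩
  have hTK : T ≤ Subgroup.normalizer (K : Set G) := by
    intro x hx
    have : Subgroup.normalizer (O : Set M₀) = ⊤ := Subgroup.normalizer_eq_top_iff.mpr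
      (MonoidHom.normal_ker _)
    exact Subgroup.le_normalizer_map (H := O) M₀.subtype
      (Subgroup.mem_map_of_mem M₀.subtype (this ▸ Subgroup.mem_top (⟨x, hTM hx⟩ : M₀)))
  have hcop : Nat.Coprime 3 (Nat.card K) := by
    rw [hcardK]
    exact (Nat.Prime.coprime_iff_not_dvd Nat.prime_three).mpr hdvd
  have hp3 : ∀ x ∈ T, x ^ 3 = 1 := by
    intro x hx
    have h3 : ∀ w : V, rotV w = true → w ^ 3 = 1 := by decide +kernel
    have h4 := h3 _ ((S.mem_T_iff ⟨x, S.hTH hx⟩).mp hx)
    rw [← map_pow, ← map_one e] at h4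
    simpa using congrArg Subtype.val (e.injective h4)
  have hle := Basics.le_genCent T 3 (a : G) (b : G) haT hbT K hTK
    (by rw [S.hT]; exact (hcop.pow_left 2 : Nat.Coprime (3 ^ 2) _)) hcop
    (by rw [hp3 _ haT]; exact one_mem _) (by rw [hp3 _ hbT]; exact one_mem _)
  have hne : ∀ j : ℕ, (r (1 : ZMod 3), 1) * ((1, r 1) : V) ^ j ≠ 1 := by
    intro j h
    have h6 := congrArg Prod.fst h
    simp at h6
    exact gen_facts.2.2.2.2.2.2.2.2 h6
  have hKH : K ≤ H := by
    refine hle.trans (sup_le (iSup_le fun j => inf_le_right.trans (S.hC _ ?_ ?_))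
      (inf_le_right.trans (S.hC _ hbT ?_)))
    · exact mul_mem haT (pow_mem hbT j)
    · intro he
      have h5 : a * b ^ j = 1 := Subtype.ext (by simpa using he)
      refine hne j ?_
      rw [← ha, ← hb, ← map_pow, ← map_mul, h5, map_one]
    · intro he
      have h5 : b = 1 := Subtype.ext he
      rw [h5, map_one] at hb
      exact absurd (congrArg Prod.snd hb).symm (by simpa using gen_facts.2.2.2.2.2.2.2.2)
  have hMH : M₀ ≤ H := by
    intro x hx
    obtain ⟨⟨o, p⟩, hop⟩ := hcompl.2 ⟨x, hx⟩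
    have hval : ((o : M₀) : G) * ((p : M₀) : G) = x := congrArg Subtype.val hop
    rw [← hval]
    exact mul_mem (hKH (Subgroup.mem_map_of_mem _ o.2)) (S.hTH p.2)
  have hfr := Sylow.normalizer_sup_eq_top P
  rw [show ((P : Subgroup M₀)).map M₀.subtype = T by
    rw [hPdef, IsPGroup.toSylow_coe, Subgroup.subgroupOf_map_subtype, inf_eq_left.mpr hTM],
    S.hN, sup_eq_left.mpr hMH] at hfr
  exact hfr

theorem eq_top_of_isolated (S : Setup H T e) {a b c : H} (ea : e a = (sr 0, 1))
    (eb : e b = (1, sr 0)) (ec : e c = (sr 0, sr 0)) (hac : ¬ IsConj (a : G) (c : G)) : H = ⊤ := by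
  obtain ⟨⟨s₁, h₁⟩, hbc⟩ := S.isolated ea eb ec hac
  obtain ⟨⟨s₂, h₂⟩, -⟩ := S.comp_swap.isolated (a := b) (b := a) (c := c)
    (by simp [eb, swapV_reps.2.1]) (by simp [ea, swapV_reps.1]) (by simp [ec, swapV_reps.2.2]) hbc
  exact S.eq_top_of_two_signs h₁ h₂

theorem eq_top (S : Setup H T e) : H = ⊤ := by
  obtain ⟨a, ea⟩ := e.surjective (sr 0, 1)
  obtain ⟨b, eb⟩ := e.surjective (1, sr 0)
  obtain ⟨c, ec⟩ := e.surjective (sr 0, sr 0)
  by_cases hac : IsConj (a : G) (c : G)
  · exact S.comp_swap.eq_top_of_isolated (a := b) (b := a) (c := c)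
      (by simp [eb, swapV_reps.2.1]) (by simp [ea, swapV_reps.1]) (by simp [ec, swapV_reps.2.2])
      fun hbc => S.not_conj_AB ea eb (hac.trans hbc.symm)
  · exact S.eq_top_of_isolated ea eb ec hac

end Setup

end Cfsg.Agent.NineV4
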